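import Groth.Prelude.Def_GLin
import Groth.Agent.Comodule.Integral
import Groth.Agent.Comodule.Reductive
import Groth.Agent.S7952
import Mathlib

/-!
# Finiteness of the graph of an action with closed orbits and finite stabilisers

For a linearly reductive connected group with coordinate ring `A` acting on an algebra `R` the map
`R ⊗ R → R ⊗ A`, `r ⊗ s ↦ r s₀ ⊗ s₁`, is finite if it is quasi-finite and all orbits are closed.
-/

set_option autoImplicit false
set_option backward.isDefEq.respectTransparency false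
set_option backward.isDefEq.respectTransparency.types false

noncomputable section

universe u

open TensorProduct WithConv

namespace Groth.Agent.PropAct

open Groth.Agent.Comodule

variable {k : Type u} [Field k]

/-- A tensor with all contractions in a subspace lies in that subspace tensored up. -/
theorem mem_range_rTensor {V C : Type u} [AddCommGroup V] [Module k V] [AddCommGroup C] [Module k C]
    (P : Submodule k V) {z : V ⊗[k] C} (h : ∀ φ : C →ₗ[k] k, rcon φ z ∈ P) :
    z ∈ LinearMap.range (P.subtype.rTensor C) := by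
  classical
  let ℬ := Module.Free.chooseBasis k C
  obtain ⟨b, rfl⟩ := TensorProduct.eq_repr_basis_right ℬ z
  refine Submodule.sum_mem _ fun i _ => ?_
  have hb : b i ∈ P := by
    have h' := h (ℬ.coord i)
    rw [map_finsuppSum] at h'
    simp [Finsupp.single_apply, Finsupp.sum, Module.Basis.coord_apply] at h'
    by_cases hb0 : b i = 0
    · simp [hb0]
    · simpa [hb0] using h'
  exact ⟨(⟨b i, hb⟩ : P) ⊗ₜ ℬ i, by simp⟩

/-- The decomposition of a tensor along linearly independent vectors. -/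
theorem exists_decomp {V C : Type u} [AddCommGroup V] [Module k V] [AddCommGroup C] [Module k C] (z : V ⊗[k] C) :
    ∃ (ι : Type u) (_ : Fintype ι) (b : ι → V) (c : ι → C) (ψ : ι → (C →ₗ[k] k)),
      z = ∑ i, b i ⊗ₜ[k] c i ∧ (∀ i, b i = rcon (ψ i) z) ∧ LinearIndependent k c := by
  classical
  let ℬ := Module.Free.chooseBasis k C
  obtain ⟨b, rfl⟩ := TensorProduct.eq_repr_basis_right ℬ z
  refine ⟨↥b.support, inferInstance, fun i => b i, fun i => ℬ i, fun i => ℬ.coord i, ?_, fun i => ?_, ?_⟩
  · exact (Finset.sum_attach b.support fun i => b i ⊗ₜ[k] ℬ i).symm.trans rfl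
  · rw [map_finsuppSum]
    simp [Finsupp.single_apply, Finsupp.sum, Module.Basis.coord_apply]
  · exact ℬ.linearIndependent.comp _ Subtype.val_injective

/-- The lowest coefficient of a relation of a nonzero element is a multiple of that element. -/
theorem coeff_natTrailingDegree_eq {D : Type u} [CommRing D] [IsDomain D] {p : Polynomial D} {x : D} (hx : x ≠ 0)
    (hp : p.eval x = 0) :
    p.coeff p.natTrailingDegree =
      -(x * ∑ i ∈ Finset.range (p.natDegree + 1), p.coeff (p.natTrailingDegree + 1 + i) * x ^ i) := by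
  set n := p.natTrailingDegree with hn
  have h : x ^ n * (p.coeff n + x * ∑ i ∈ Finset.range (p.natDegree + 1), p.coeff (n + 1 + i) * x ^ i) = 0 := by
    rw [← hp, Polynomial.eval_eq_sum_range' (n := n + 1 + (p.natDegree + 1)) (by omega),
      Finset.sum_range_add _ (n + 1), Finset.sum_range_succ _ n,
      Finset.sum_eq_zero (s := Finset.range n) fun i hi => by
        rw [Polynomial.coeff_eq_zero_of_lt_natTrailingDegree (hn ▸ Finset.mem_range.1 hi), zero_mul],
      zero_add, mul_add, Finset.mul_sum, Finset.mul_sum]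
    congr 1
    · ring
    · exact Finset.sum_congr rfl fun i _ => by ring
  exact eq_neg_of_add_eq_zero_left ((mul_eq_zero.1 h).resolve_left (pow_ne_zero _ hx))

/-- Points separate the elements of a reduced algebra of finite type over an algebraically closed field. -/
theorem exists_pt_ne_zero {K B : Type u} [Field K] [IsAlgClosed K] [CommRing B] [Algebra K B] [Algebra.FiniteType K B]
    [IsReduced B] {z : B} (hz : z ≠ 0) : ∃ φ : B →ₐ[K] K, φ z ≠ 0 := by
  haveI : IsJacobsonRing B := isJacobsonRing_of_finiteType (A := K)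
  have h : z ∉ (⊥ : Ideal B).jacobson := by
    rw [IsJacobsonRing.out inferInstance (fun x ⟨n, hn⟩ => (Ideal.mem_bot.2 (IsNilpotent.eq_zero ⟨n, hn⟩))), Ideal.mem_bot]
    exact hz
  rw [Ideal.jacobson, Ideal.mem_sInf] at h
  push Not at h
  obtain ⟨m, ⟨-, hm⟩, hzm⟩ := h
  haveI := hm
  letI : Field (B ⧸ m) := Ideal.Quotient.field m
  haveI : Module.Finite K (B ⧸ m) := finite_of_finite_type_of_isJacobsonRing K (B ⧸ m)
  let e : K ≃ₐ[K] B ⧸ m := AlgEquiv.ofBijective (Algebra.ofId K (B ⧸ m)) IsAlgClosed.algebraMap_bijective_of_isIntegral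
  refine ⟨e.symm.toAlgHom.comp (Ideal.Quotient.mkₐ K m), fun h0 => hzm (Ideal.Quotient.eq_zero_iff_mem.1 ?_)⟩
  exact e.symm.map_eq_zero_iff.1 h0

/-- The values of linearly independent functions at the geometric points span. -/
theorem span_values {A : Type u} [CommRing A] [Algebra k A] [Algebra.FiniteType k A] (K : Type u) [Field K]
    [IsAlgClosed K] [Algebra k K] [IsReduced (K ⊗[k] A)] {ι : Type u} [Fintype ι] {c : ι → A}
    (hc : LinearIndependent k c) :
    Submodule.span K (Set.range fun g : A →ₐ[k] K => fun i => g (c i)) = ⊤ := by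
  classical
  by_contra hne
  obtain ⟨l, hl, hle⟩ := Submodule.exists_le_ker_of_lt_top _ (lt_top_iff_ne_top.2 hne)
  refine hl (LinearMap.ext fun w => ?_)
  have hzero : ∀ g : A →ₐ[k] K, l (fun i => g (c i)) = 0 := fun g =>
    LinearMap.mem_ker.1 (hle (Submodule.subset_span ⟨g, rfl⟩))
  let μ : ι → K := fun i => l (Pi.single i 1)
  have hl' : ∀ w : ι → K, l w = ∑ i, w i * μ i := fun w => by
    conv_lhs => rw [← Finset.univ_sum_single w, map_sum]
    refine Finset.sum_congr rfl fun i _ => ?_
    rw [← smul_eq_mul, ← map_smul]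
    congr 1
    ext j
    simp [Pi.single_apply]
  let z : K ⊗[k] A := ∑ i, μ i ⊗ₜ[k] c i
  have hz : z = 0 := by
    by_contra h0
    obtain ⟨φ, hφ⟩ := exists_pt_ne_zero (K := K) h0
    refine hφ ?_
    let g : A →ₐ[k] K := (φ.restrictScalars k).comp Algebra.TensorProduct.includeRight
    have hφ' : ∀ (x : K) (a : A), φ (x ⊗ₜ[k] a) = x * g a := fun x a => by
      rw [show x ⊗ₜ[k] a = x • ((1 : K) ⊗ₜ[k] a) by rw [TensorProduct.smul_tmul', smul_eq_mul, mul_one], map_smul,
        smul_eq_mul]
      rfl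
    simp only [z, map_sum, hφ']
    rw [← hzero g, hl']
    exact Finset.sum_congr rfl fun i _ => mul_comm _ _
  have hμ : ∀ j, μ j = 0 := by
    intro j
    let s := hc.repr
    obtain ⟨ψ, hψ⟩ := LinearMap.exists_extend (Finsupp.lapply j ∘ₗ hc.repr)
    have hψ' : ∀ i, ψ (c i) = if i = j then 1 else 0 := fun i => by
      have h := LinearMap.congr_fun hψ ⟨c i, Submodule.subset_span ⟨i, rfl⟩⟩
      simp only [LinearMap.comp_apply, Submodule.subtype_apply] at h
      rw [h, hc.repr_eq_single i _ rfl]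
      simp [Finsupp.single_apply]
    have h := congrArg (rcon (V := K) ψ) hz
    simpa [z, hψ'] using h
  rw [hl', LinearMap.zero_apply]
  simp [hμ]

variable (k)
variable (A : Type u) [CommRing A] [HopfAlgebra k A]
variable (R : Type u) [CommRing R] [Algebra k R]

/-- The regular coaction on `R ⊗ A`. -/
def δ : R ⊗[k] A →ₐ[k] (R ⊗[k] A) ⊗[k] A :=
  (Algebra.TensorProduct.assoc k k k R A A).symm.toAlgHom.comp
    (Algebra.TensorProduct.map (AlgHom.id k R) (Bialgebra.comulAlgHom k A))

variable [HopfRep.Comod k A R] [GLin.IsCoactAlg k A R]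

/-- The graph of the action. -/
def θ : R ⊗[k] R →ₐ[k] R ⊗[k] A :=
  Algebra.TensorProduct.lift Algebra.TensorProduct.includeLeft (GLin.coactAlgHom k A R) fun _ _ => .all _ _

/-- The coaction on the second factor of `R ⊗ R`. -/
def δQ : R ⊗[k] R →ₐ[k] (R ⊗[k] R) ⊗[k] A :=
  (Algebra.TensorProduct.assoc k k k R R A).symm.toAlgHom.comp
    (Algebra.TensorProduct.map (AlgHom.id k R) (GLin.coactAlgHom k A R))

theorem δ_θ : (δ k A R).comp (θ k A R) =
    (Algebra.TensorProduct.map (θ k A R) (AlgHom.id k A)).comp (δQ k A R) := by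
  refine Algebra.TensorProduct.ext' fun r s => ?_
  have h := LinearMap.congr_fun (HopfRep.Comod.coassoc (k := k) (A := A) (V := R)) s
  simp only [LinearMap.comp_apply, LinearEquiv.coe_coe] at h
  have lhs : δ k A R (θ k A R (r ⊗ₜ[k] s)) = ((r ⊗ₜ[k] (1 : A)) ⊗ₜ[k] (1 : A)) *
      (TensorProduct.assoc k R A A).symm
        ((CoalgebraStruct.comul (R := k) (A := A)).lTensor R (HopfRep.Comod.coact (k := k) (A := A) s)) := by
    have h1 : θ k A R (r ⊗ₜ[k] s) = (r ⊗ₜ[k] (1 : A)) * HopfRep.Comod.coact (k := k) (A := A) s := rfl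
    rw [h1, map_mul]
    congr 1
    simp [δ, Algebra.TensorProduct.one_def]
  simp only [AlgHom.comp_apply]
  rw [lhs, ← h, LinearEquiv.symm_apply_apply]
  have rhs : δQ k A R (r ⊗ₜ[k] s) =
      (Algebra.TensorProduct.assoc k k k R R A).symm (r ⊗ₜ[k] HopfRep.Comod.coact (k := k) (A := A) s) := rfl
  rw [rhs]
  generalize HopfRep.Comod.coact (k := k) (A := A) s = z
  induction z with
  | zero => simp
  | add p q hp hq => simp only [map_add, TensorProduct.tmul_add, mul_add, hp, hq]
  | tmul p q => simp [θ, Algebra.TensorProduct.tmul_mul_tmul]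

variable {k A R}

omit [HopfRep.Comod k A R] [GLin.IsCoactAlg k A R] in
/-- Contracting the regular coaction. -/
theorem rcon_δ_tmul (φ : A →ₗ[k] k) (r : R) (a : A) :
    rcon φ (δ k A R (r ⊗ₜ[k] a)) = r ⊗ₜ[k] rcon φ (Coalgebra.comul (R := k) a) := by
  show rcon φ ((Algebra.TensorProduct.assoc k k k R A A).symm (r ⊗ₜ[k] Coalgebra.comul (R := k) a)) = _
  generalize Coalgebra.comul (R := k) a = z
  induction z with
  | zero => simp
  | add p q hp hq => simp only [map_add, TensorProduct.tmul_add, hp, hq]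
  | tmul p q => simp

omit [HopfRep.Comod k A R] [GLin.IsCoactAlg k A R] in
theorem rcon_counit_δ (φ : A →ₗ[k] k) (z : R ⊗[k] A) :
    rcon (Coalgebra.counit (R := k)) (rcon φ (δ k A R z)) = rcon φ z := by
  induction z with
  | zero => simp
  | add p q hp hq => simp only [map_add, hp, hq]
  | tmul r a =>
    rw [rcon_δ_tmul, rcon_tmul, rcon_tmul]
    congr 1
    have h : φ = φ ∘ₗ (TensorProduct.lid k A).toLinearMap ∘ₗ (Coalgebra.counit (R := k)).rTensor A ∘ₗ
        Coalgebra.comul (R := k) := LinearMap.ext fun b => by simp [Coalgebra.rTensor_counit_comul]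
    conv_rhs => rw [h]
    simp only [LinearMap.comp_apply, LinearEquiv.coe_coe]
    generalize Coalgebra.comul (R := k) a = z
    induction z with
    | zero => simp
    | add p q hp hq => simp only [map_add, hp, hq]
    | tmul p q => simp [mul_comm]

/-- A right invariant functional. -/
theorem exists_rightIntegral (hA : HopfRep.IsLinearlyReductive k A) :
    ∃ l : A →ₗ[k] k, l 1 = 1 ∧ ∀ a : A, rcon l (Coalgebra.comul (R := k) a) = l a • (1 : A) := by
  obtain ⟨l, hl⟩ := exists_integral_of_invSection (invSection_of_linRed hA)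
  refine ⟨l ∘ₗ HopfAlgebra.antipode k, by simp [hl.map_one], fun a => ?_⟩
  have h := congrArg (HopfAlgebra.antipode k) (hl.invariant (HopfAlgebra.antipode k a))
  rw [map_smul, HopfAlgebra.antipode_one, comul_antipode] at h
  refine Eq.trans ?_ h
  generalize Coalgebra.comul (R := k) a = z
  induction z with
  | zero => simp
  | add p q hp hq => simp only [map_add, hp, hq]
  | tmul p q => simp [antipode_antipode]

/-- `Σ Δ(v₁) (1 ⊗ S v₂) = v ⊗ 1`. -/
theorem lift_comul_antipode (v : A) :
    Algebra.TensorProduct.lift (Bialgebra.comulAlgHom k A)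
        ((Algebra.TensorProduct.includeRight : A →ₐ[k] A ⊗[k] A).comp (HopfAlgebra.antipodeAlgHom k A))
        (fun _ _ => Commute.all _ _) (Coalgebra.comul (R := k) v) = v ⊗ₜ[k] (1 : A) := by
  let jL : A →ₐ[k] A ⊗[k] A := Algebra.TensorProduct.includeLeft
  let jR : A →ₐ[k] A ⊗[k] A := Algebra.TensorProduct.includeRight
  have h := congrArg (fun f => f.ofConv v) (lift_comp_eq_mul (Bialgebra.comulAlgHom k A)
    (jR.comp (HopfAlgebra.antipodeAlgHom k A)))
  simp only [ofConv_toConv, AlgHom.comp_apply, Bialgebra.comulAlgHom_apply] at h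
  refine h.trans ?_
  have e : toConv (jR.comp (HopfAlgebra.antipodeAlgHom k A)) = (toConv jR)⁻¹ := rfl
  have e2 : toConv (Bialgebra.comulAlgHom k A) * (toConv jR)⁻¹ = toConv jL := by
    rw [comulAlgHom_eq_mul]
    exact mul_inv_cancel_right (toConv jL) (toConv jR)
  rw [e, e2]
  rfl

/-- `Σ (f ⊗ id)(b₀) (1 ⊗ S b₁) = f ((id ⊗ ε) b)` for the regular coaction `b ↦ b₀ ⊗ b₁`. -/
theorem lift_δ_antipode {K : Type u} [CommRing K] [Algebra k K] (f : R →ₐ[k] K) (z : R ⊗[k] A) :
    Algebra.TensorProduct.lift (Algebra.TensorProduct.map f (AlgHom.id k A))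
        ((Algebra.TensorProduct.includeRight : A →ₐ[k] K ⊗[k] A).comp (HopfAlgebra.antipodeAlgHom k A))
        (fun _ _ => Commute.all _ _) (δ k A R z) =
      f (rcon (Coalgebra.counit (R := k)) z) ⊗ₜ[k] (1 : A) := by
  induction z with
  | zero => simp
  | add p q hp hq => simp only [map_add, TensorProduct.add_tmul, hp, hq]
  | tmul r a =>
    rw [rcon_tmul, map_smul, TensorProduct.smul_tmul, ← Algebra.algebraMap_eq_smul_one,
      ← HopfAlgebra.mul_antipode_lTensor_comul_apply]
    show Algebra.TensorProduct.lift _ _ _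
      ((Algebra.TensorProduct.assoc k k k R A A).symm (r ⊗ₜ[k] Coalgebra.comul (R := k) a)) = _
    generalize Coalgebra.comul (R := k) a = y
    induction y with
    | zero => simp
    | add p q hp hq => simp only [map_add, TensorProduct.tmul_add, hp, hq]
    | tmul p q => simp [Algebra.TensorProduct.tmul_mul_tmul]

section Main

variable [Algebra.FiniteType k A]

/-- Integral closedness is stable under the coaction. -/
theorem isIntegralElem_rcon_δ {K : Type u} [Field K] [IsAlgClosed K] [Algebra k K] [Algebra.IsAlgebraic k K]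
    [IsReduced (K ⊗[k] A)] {c : R ⊗[k] A} (hc : (θ k A R).toRingHom.IsIntegralElem c) (φ : A →ₗ[k] k) :
    (θ k A R).toRingHom.IsIntegralElem (rcon φ (δ k A R c)) := by
  classical
  letI : Algebra (R ⊗[k] R) (R ⊗[k] A) := (θ k A R).toRingHom.toAlgebra
  haveI : IsScalarTower k (R ⊗[k] R) (R ⊗[k] A) := IsScalarTower.of_algebraMap_eq fun x =>
    ((θ k A R).commutes x).symm
  let BK := (R ⊗[k] A) ⊗[k] K
  let S := (R ⊗[k] R) ⊗[k] K
  let m : S →ₐ[k] BK := Algebra.TensorProduct.map (θ k A R) (AlgHom.id k K)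
  letI : Algebra S BK := m.toRingHom.toAlgebra
  haveI : IsScalarTower (R ⊗[k] R) S BK := IsScalarTower.of_algebraMap_eq (R := R ⊗[k] R) (S := S) (A := BK) fun x => by
    show (θ k A R x) ⊗ₜ[k] (1 : K) = m (x ⊗ₜ[k] (1 : K))
    rfl
  haveI : Algebra.IsIntegral k K := Algebra.IsAlgebraic.isIntegral
  haveI : Algebra.IsIntegral (R ⊗[k] R) S := Algebra.IsIntegral.tensorProduct k (R ⊗[k] R) K
  let T : (A →ₐ[k] K) → BK := fun g => Algebra.TensorProduct.map (AlgHom.id k _) g (δ k A R c)
  have hT : ∀ g : A →ₐ[k] K, IsIntegral (R ⊗[k] R) (T g) := by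
    intro g
    let U : R ⊗[k] R →ₐ[k] S := (Algebra.TensorProduct.map (AlgHom.id k _) g).comp (δQ k A R)
    let V : R ⊗[k] A →ₐ[k] BK := (Algebra.TensorProduct.map (AlgHom.id k _) g).comp (δ k A R)
    have hcomp : V.comp (θ k A R) = m.comp U := by
      rw [AlgHom.comp_assoc, δ_θ]
      simp only [U, m, ← AlgHom.comp_assoc]
      congr 1
      exact Algebra.TensorProduct.ext' fun b a => rfl
    obtain ⟨p, hp, hpc⟩ := hc
    refine isIntegral_trans (A := S) (T g) ⟨p.map U.toRingHom, hp.map _, ?_⟩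
    rw [Polynomial.eval₂_map, show (algebraMap S BK).comp U.toRingHom = V.toRingHom.comp (θ k A R).toRingHom from
      congrArg AlgHom.toRingHom hcomp.symm, show T g = V.toRingHom c from rfl, ← Polynomial.hom_eval₂, hpc, map_zero]
  obtain ⟨ι, _, b, a, ψ, hz, -, hind⟩ := exists_decomp (δ k A R c)
  have hv : (fun i => algebraMap k K (φ (a i))) ∈ Submodule.span K (Set.range fun g : A →ₐ[k] K => fun i => g (a i)) := by
    rw [span_values K hind]; trivial
  have key : ∀ v ∈ Submodule.span K (Set.range fun g : A →ₐ[k] K => fun i => g (a i)),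
      IsIntegral (R ⊗[k] R) (∑ i, b i ⊗ₜ[k] v i : BK) := by
    intro v hv
    induction hv using Submodule.span_induction with
    | mem v hv =>
      obtain ⟨g, rfl⟩ := hv
      have h := hT g
      simp only [T, hz, map_sum, Algebra.TensorProduct.map_tmul, AlgHom.id_apply] at h
      exact h
    | zero => simp only [Pi.zero_apply, TensorProduct.tmul_zero, Finset.sum_const_zero]; exact isIntegral_zero
    | add v w _ _ hv hw =>
      simp only [Pi.add_apply, TensorProduct.tmul_add, Finset.sum_add_distrib]; exact hv.add hw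
    | smul x v _ hv =>
      have hx : IsIntegral (R ⊗[k] R) ((1 : R ⊗[k] A) ⊗ₜ[k] x : BK) :=
        IsIntegral.map (IsScalarTower.toAlgHom (R ⊗[k] R) S BK)
          (Algebra.IsIntegral.isIntegral (R := R ⊗[k] R) ((1 : R ⊗[k] R) ⊗ₜ[k] x : S)) |> fun h => by
            rwa [show IsScalarTower.toAlgHom (R ⊗[k] R) S BK ((1 : R ⊗[k] R) ⊗ₜ[k] x) =
              ((1 : R ⊗[k] A) ⊗ₜ[k] x : BK) from congrArg (· ⊗ₜ[k] x) (map_one (θ k A R))] at h
      have h1 := hx.mul hv
      rw [Finset.mul_sum] at h1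
      simpa [Algebra.TensorProduct.tmul_mul_tmul] using h1
  have h := key _ hv
  have e : (∑ i, b i ⊗ₜ[k] algebraMap k K (φ (a i)) : BK) =
      Algebra.TensorProduct.includeLeft (S := k) (rcon φ (δ k A R c)) := by
    rw [hz, map_sum, map_sum]
    refine Finset.sum_congr rfl fun i _ => ?_
    rw [rcon_tmul, Algebra.algebraMap_eq_smul_one, ← TensorProduct.smul_tmul, Algebra.TensorProduct.includeLeft_apply]
  rw [e] at h
  have hinj : Function.Injective (IsScalarTower.toAlgHom (R ⊗[k] R) (R ⊗[k] A) BK) :=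
    Algebra.TensorProduct.includeLeft_injective (S := k) (algebraMap k K).injective
  exact (isIntegral_algHom_iff _ hinj).1 h

/-- A quasi-finite graph of a closed action of a connected linearly reductive group is finite. -/
theorem finite_θ (hA : HopfRep.IsLinearlyReductive k A) (K : Type u) [Field K] [IsAlgClosed K] [Algebra k K]
    [Algebra.IsAlgebraic k K] [IsDomain (K ⊗[k] A)] [Algebra.FiniteType k R]
    (hcl : ∀ f : R →ₐ[k] K, IsClosed (Set.range
      (PrimeSpectrum.comap ((Algebra.TensorProduct.map f (AlgHom.id k A)).comp (θ k A R)).toRingHom)))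
    (hqf : (θ k A R).toRingHom.QuasiFinite) : (θ k A R).toRingHom.Finite := by
  classical
  letI : Algebra (R ⊗[k] R) (R ⊗[k] A) := (θ k A R).toRingHom.toAlgebra
  haveI : IsScalarTower k (R ⊗[k] R) (R ⊗[k] A) := IsScalarTower.of_algebraMap_eq fun x =>
    ((θ k A R).commutes x).symm
  haveI : Algebra.FiniteType k (R ⊗[k] A) :=
    Algebra.FiniteType.trans (R := k) (S := R) inferInstance inferInstance
  haveI : Algebra.FiniteType (R ⊗[k] R) (R ⊗[k] A) := Algebra.FiniteType.of_restrictScalars_finiteType k _ _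
  haveI : Algebra.QuasiFinite (R ⊗[k] R) (R ⊗[k] A) := hqf
  let C := integralClosure (R ⊗[k] R) (R ⊗[k] A)
  obtain ⟨s, hs⟩ := Algebra.FiniteType.out (R := k) (A := A)
  choose W hWfin hWmem hWsub using fun a : A => Groth.Agent.S7952.result k A A a
  let V₀ : Submodule k A := ⨆ a : s, W a
  haveI : Module.Finite k V₀ := by
    haveI := fun a : s => hWfin (a : A)
    infer_instance
  have hV₀ : ∀ v ∈ V₀, Coalgebra.comul (R := k) v ∈ LinearMap.range (V₀.subtype.rTensor A) := by
    intro v hv
    induction hv using Submodule.iSup_induction' with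
    | mem a x hx =>
      obtain ⟨z, hz⟩ := hWsub (a : A) x hx
      refine ⟨(Submodule.inclusion (le_iSup (fun b : s => W b) a)).rTensor A z, ?_⟩
      rw [← LinearMap.rTensor_comp_apply]
      exact hz
    | zero => simp
    | add x y _ _ hx hy => rw [map_add]; exact add_mem hx hy
  have hadj : Algebra.adjoin k (V₀ : Set A) = ⊤ := by
    refine top_le_iff.1 (hs.ge.trans (Algebra.adjoin_mono fun a ha => ?_))
    exact Submodule.mem_iSup_of_mem (⟨a, ha⟩ : s) (hWmem a)
  let F : Submodule k (R ⊗[k] A) :=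
    { carrier := {c | c ∈ C ∧ ∀ v ∈ V₀, c * ((1 : R) ⊗ₜ[k] v) ∈ C}
      add_mem' := fun {x y} hx hy => ⟨add_mem hx.1 hy.1, fun v hv => by
        rw [add_mul]; exact add_mem (hx.2 v hv) (hy.2 v hv)⟩
      zero_mem' := ⟨zero_mem C, fun v hv => by rw [zero_mul]; exact zero_mem C⟩
      smul_mem' := fun t x hx => ⟨Submodule.smul_mem (Subalgebra.toSubmodule (C.restrictScalars k)) t hx.1,
        fun v hv => by
          rw [smul_mul_assoc]
          exact Submodule.smul_mem (Subalgebra.toSubmodule (C.restrictScalars k)) t (hx.2 v hv)⟩ }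
  have hF : ∀ {c}, c ∈ F ↔ c ∈ C ∧ ∀ v ∈ V₀, c * ((1 : R) ⊗ₜ[k] v) ∈ C := Iff.rfl
  have hCmul : ∀ {c x}, c ∈ F → x ∈ C → c * x ∈ F := fun {c x} hc hx => ⟨mul_mem hc.1 hx, fun v hv => by
    rw [mul_right_comm]; exact mul_mem (hc.2 v hv) hx⟩
  have hCr : ∀ r : R, (r ⊗ₜ[k] (1 : A) : R ⊗[k] A) ∈ C := fun r => by
    have : algebraMap (R ⊗[k] R) (R ⊗[k] A) (r ⊗ₜ[k] (1 : R)) = r ⊗ₜ[k] (1 : A) := by
      show θ k A R (r ⊗ₜ[k] (1 : R)) = _
      simp [θ, GLin.IsCoactAlg.coact_one]
    exact this ▸ C.algebraMap_mem _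
  haveI : IsReduced (K ⊗[k] A) := inferInstance
  have hCcon : ∀ {c}, c ∈ C → ∀ φ : A →ₗ[k] k, rcon φ (δ k A R c) ∈ C := fun {c} hc φ =>
    isIntegralElem_rcon_δ (K := K) hc φ
  -- the conductor is stable under the coaction
  have hFcon : ∀ {c}, c ∈ F → ∀ φ : A →ₗ[k] k, rcon φ (δ k A R c) ∈ F := by
    intro c hc φ
    refine hF.2 ⟨hCcon hc.1 φ, fun v hv => ?_⟩
    let j : A →ₐ[k] R ⊗[k] A := Algebra.TensorProduct.includeRight
    have hj : ∀ x : A, δ k A R (j x) = Algebra.TensorProduct.map j (AlgHom.id k A) (Coalgebra.comul (R := k) x) := by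
      intro x
      show (Algebra.TensorProduct.assoc k k k R A A).symm ((1 : R) ⊗ₜ[k] Coalgebra.comul (R := k) x) = _
      generalize Coalgebra.comul (R := k) x = y
      induction y with
      | zero => simp
      | add p q hp hq => simp only [map_add, TensorProduct.tmul_add, hp, hq]
      | tmul p q => simp [j]
    have h1 : rcon φ (δ k A R c) * ((1 : R) ⊗ₜ[k] v) =
        rcon φ (δ k A R c * (((1 : R) ⊗ₜ[k] v) ⊗ₜ[k] (1 : A))) := by
      generalize δ k A R c = z
      induction z with
      | zero => simp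
      | add p q hp hq => simp only [map_add, add_mul, hp, hq]
      | tmul p q => simp [Algebra.TensorProduct.tmul_mul_tmul]
    have h2 : ((1 : R) ⊗ₜ[k] v) ⊗ₜ[k] (1 : A) =
        Algebra.TensorProduct.map j (AlgHom.id k A) (v ⊗ₜ[k] (1 : A)) := by simp [j]
    rw [h1, h2, ← lift_comul_antipode v]
    obtain ⟨y, hy⟩ := hV₀ v hv
    rw [← hy]
    clear hy h1 h2
    induction y with
    | zero => simp only [map_zero, mul_zero]; exact zero_mem C
    | add p q hp hq => simp only [map_add, mul_add]; exact add_mem hp hq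
    | tmul p q =>
      rw [LinearMap.rTensor_tmul, Algebra.TensorProduct.lift_tmul,
        map_mul (Algebra.TensorProduct.map j (AlgHom.id k A)), Bialgebra.comulAlgHom_apply,
        ← hj, ← mul_assoc, ← map_mul (δ k A R)]
      have h3 : ∀ z : (R ⊗[k] A) ⊗[k] A, rcon φ (z * Algebra.TensorProduct.map j (AlgHom.id k A)
            (((Algebra.TensorProduct.includeRight : A →ₐ[k] A ⊗[k] A).comp (HopfAlgebra.antipodeAlgHom k A)) q)) =
          rcon (φ ∘ₗ LinearMap.mulRight k (HopfAlgebra.antipode k q)) z := by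
        intro z
        induction z with
        | zero => simp
        | add x y hx hy => simp only [map_add, add_mul, hx, hy]
        | tmul x y => simp [j, Algebra.TensorProduct.tmul_mul_tmul, ← Algebra.TensorProduct.one_def]
      rw [h3]
      exact hCcon (hc.2 _ p.2) _
  -- Zariski's main theorem
  have hFprime : ∀ P : Ideal (R ⊗[k] A), P.IsPrime → ∃ c ∈ F, c ∉ P := by
    intro P hP
    haveI := hP
    obtain ⟨r, hrP, hr, hm⟩ := Algebra.zariskisMainProperty_iff.1
      (Algebra.ZariskisMainProperty.of_finiteType (R := R ⊗[k] R) P)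
    choose m hm using hm
    obtain ⟨t, ht⟩ := (Module.finite_def.1 (inferInstance : Module.Finite k V₀))
    let M := t.sup fun v => m ((1 : R) ⊗ₜ[k] (v : A))
    refine ⟨r ^ M, hF.2 ⟨pow_mem hr M, fun v hv => ?_⟩, fun h => hrP (hP.mem_of_pow_mem M h)⟩
    have hmem : (⟨v, hv⟩ : V₀) ∈ Submodule.span k (t : Set V₀) := ht ▸ trivial
    suffices ∀ w ∈ Submodule.span k (t : Set V₀), r ^ M * ((1 : R) ⊗ₜ[k] (w : A)) ∈ C from this _ hmem
    intro w hw
    induction hw using Submodule.span_induction with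
    | mem w hw =>
      have hle : m ((1 : R) ⊗ₜ[k] (w : A)) ≤ M := Finset.le_sup (f := fun v : V₀ => m ((1 : R) ⊗ₜ[k] (v : A))) hw
      obtain ⟨d, hd⟩ := Nat.exists_eq_add_of_le hle
      rw [hd, add_comm, pow_add, mul_assoc]
      exact mul_mem (pow_mem hr d) (hm _)
    | zero => simp
    | add a b _ _ ha hb => rw [Submodule.coe_add, TensorProduct.tmul_add, mul_add]; exact add_mem ha hb
    | smul x a _ ha =>
      rw [Submodule.coe_smul, TensorProduct.tmul_smul, mul_smul_comm]
      exact Submodule.smul_mem (Subalgebra.toSubmodule (C.restrictScalars k)) x ha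
  obtain ⟨l, hl1, hlinv⟩ := exists_rightIntegral hA
  -- invariant elements of the conductor avoid every point
  have hpt : ∀ f : R →ₐ[k] K, ∃ r : R, r ⊗ₜ[k] (1 : A) ∈ F ∧ f r ≠ 0 := by
    intro f
    let π : R ⊗[k] A →ₐ[k] K ⊗[k] A := Algebra.TensorProduct.map f (AlgHom.id k A)
    haveI : (RingHom.ker π).IsPrime := RingHom.ker_isPrime π
    obtain ⟨x, hxF, hxπ⟩ := hFprime (RingHom.ker π) inferInstance
    rw [RingHom.mem_ker] at hxπ
    have hπcon : ∀ (z : R ⊗[k] A) (φ : A →ₗ[k] k),
        (Algebra.TensorProduct.map f (AlgHom.id k A) z = 0 → π (rcon φ (δ k A R z)) = 0) := by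
      intro z φ hz
      have h : ∀ w : R ⊗[k] A, π (rcon φ (δ k A R w)) =
          (rcon φ ∘ₗ Coalgebra.comul (R := k)).lTensor K (π w) := by
        intro w
        induction w with
        | zero => simp
        | add p q hp hq => simp only [map_add, hp, hq]
        | tmul p q => rw [rcon_δ_tmul]; simp [π]
      rw [h, hz, map_zero]
    let J : Submodule k (R ⊗[k] A) := LinearMap.range (θ k A R).toLinearMap ⊓
      (F ⊔ LinearMap.ker π.toLinearMap)
    have hJcon : ∀ {j}, j ∈ J → ∀ φ : A →ₗ[k] k, rcon φ (δ k A R j) ∈ J := by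
      rintro j ⟨⟨q, rfl⟩, hj⟩ φ
      refine ⟨⟨rcon φ (δQ k A R q), ?_⟩, ?_⟩
      · have h := AlgHom.congr_fun (δ_θ k A R) q
        simp only [AlgHom.comp_apply] at h
        show θ k A R _ = rcon φ (δ k A R (θ k A R q))
        rw [h]
        exact (rcon_rTensor φ (θ k A R).toLinearMap (δQ k A R q)).symm
      · obtain ⟨u, hu, n, hn, he⟩ := Submodule.mem_sup.1 hj
        rw [← he, map_add, map_add]
        exact Submodule.add_mem_sup (hFcon hu φ) (hπcon n φ hn)
    -- a nonzero element of the image ideal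
    obtain ⟨p, hp, hpx⟩ := hxF.1
    let p' := p.map (π.toRingHom.comp (θ k A R).toRingHom)
    have hp' : p'.Monic := hp.map _
    have hpx' : p'.eval (π x) = 0 := by
      rw [Polynomial.eval_map, show π x = π.toRingHom x from rfl, ← Polynomial.hom_eval₂]
      exact (congrArg π.toRingHom hpx).trans (map_zero _)
    let n := p'.natTrailingDegree
    have hn : p'.coeff n ≠ 0 := Polynomial.coeff_natTrailingDegree_eq_zero.not.2 hp'.ne_zero
    let y : R ⊗[k] A := -∑ i ∈ Finset.range (p'.natDegree + 1), θ k A R (p.coeff (n + 1 + i)) * x ^ i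
    have hyC : y ∈ C := neg_mem (sum_mem fun i _ => mul_mem (C.algebraMap_mem _) (pow_mem hxF.1 i))
    have hco : ∀ i, p'.coeff i = π (θ k A R (p.coeff i)) := fun i => Polynomial.coeff_map _ _
    have hxy : π (θ k A R (p.coeff n)) = π (x * y) := by
      rw [← hco, coeff_natTrailingDegree_eq hxπ hpx', map_mul, map_neg, map_sum, mul_neg]
      simp only [map_mul, map_pow, hco, n]
    have hjJ : θ k A R (p.coeff n) ∈ J := by
      refine ⟨⟨_, rfl⟩, Submodule.mem_sup.2 ⟨x * y, hCmul hxF hyC, θ k A R (p.coeff n) - x * y, ?_, by abel⟩⟩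
      rw [LinearMap.mem_ker, AlgHom.toLinearMap_apply, map_sub, hxy, sub_self]
    have hjπ : π (θ k A R (p.coeff n)) ≠ 0 := hco n ▸ hn
    obtain ⟨φ, hφ⟩ : ∃ φ : A →ₗ[k] k, f (rcon φ (θ k A R (p.coeff n))) ≠ 0 := by
      by_contra hc
      push Not at hc
      refine hjπ (eq_zero_of_rcon fun φ => ?_)
      rw [show π (θ k A R (p.coeff n)) = f.toLinearMap.rTensor A (θ k A R (p.coeff n)) from rfl, rcon_rTensor]
      exact hc φ
    let j := rcon φ (δ k A R (θ k A R (p.coeff n)))
    have hj : j ∈ J := hJcon hjJ φ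
    have hε : f (rcon (Coalgebra.counit (R := k)) j) ≠ 0 := by rwa [rcon_counit_δ]
    -- the image ideal is the unit ideal upstairs
    have hunit : Ideal.span (π '' J) = ⊤ := by
      have hmem : f (rcon (Coalgebra.counit (R := k)) j) ⊗ₜ[k] (1 : A) ∈ Ideal.span (π '' J) := by
        rw [← lift_δ_antipode f j]
        obtain ⟨z, hz⟩ := mem_range_rTensor J (fun φ => hJcon hj φ)
        rw [← hz]
        clear hz
        induction z with
        | zero => simp
        | add a b ha hb => simp only [map_add]; exact add_mem ha hb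
        | tmul a b =>
          rw [LinearMap.rTensor_tmul, Algebra.TensorProduct.lift_tmul]
          exact Ideal.mul_mem_right _ _ (Ideal.subset_span ⟨a, a.2, rfl⟩)
      refine Ideal.eq_top_of_isUnit_mem _ hmem ?_
      exact (isUnit_iff_ne_zero.2 hε).map (Algebra.TensorProduct.includeLeftRingHom : K →+* K ⊗[k] A)
    -- descend along the orbit map
    let Φ : R ⊗[k] R →ₐ[k] K ⊗[k] A := π.comp (θ k A R)
    let I : Ideal (R ⊗[k] R) := Ideal.span {q | θ k A R q ∈ J} ⊔ RingHom.ker Φ
    have hI : I = ⊤ := by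
      by_contra hne
      obtain ⟨M, hM, hIM⟩ := Ideal.exists_le_maximal I hne
      have hMker : RingHom.ker Φ ≤ M := le_sup_right.trans hIM
      have hMrange : (⟨M, hM.isPrime⟩ : PrimeSpectrum (R ⊗[k] R)) ∈
          Set.range (PrimeSpectrum.comap Φ.toRingHom) := by
        rw [← (hcl f).closure_eq, PrimeSpectrum.closure_range_comap, PrimeSpectrum.mem_zeroLocus]
        exact hMker
      obtain ⟨⟨P, hP⟩, hPM⟩ := hMrange
      have hPM' : P.comap Φ.toRingHom = M := congrArg PrimeSpectrum.asIdeal hPM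
      refine hP.ne_top (top_le_iff.1 (hunit.ge.trans (Ideal.span_le.2 ?_)))
      rintro _ ⟨w, hw, rfl⟩
      obtain ⟨q, rfl⟩ := hw.1
      have hq : q ∈ M := hIM (Ideal.mem_sup_left (Ideal.subset_span hw))
      rw [← hPM'] at hq
      exact hq
    have hJideal : ∀ a, ∀ w ∈ J, θ k A R a * w ∈ J := by
      rintro a w ⟨⟨q, rfl⟩, hw⟩
      refine ⟨⟨a * q, map_mul (θ k A R) a q⟩, ?_⟩
      obtain ⟨u, hu, n', hn', he⟩ := Submodule.mem_sup.1 hw
      rw [← he, mul_add, mul_comm _ u]
      refine Submodule.add_mem_sup (hCmul hu (C.algebraMap_mem a)) ?_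
      rw [LinearMap.mem_ker, AlgHom.toLinearMap_apply] at hn' ⊢
      rw [map_mul, hn', mul_zero]
    obtain ⟨q₁, hq₁, q₂, hq₂, hq⟩ := Submodule.mem_sup.1 ((Ideal.eq_top_iff_one I).1 hI)
    have hq₁J : θ k A R q₁ ∈ J := by
      clear hq
      induction hq₁ using Submodule.span_induction with
      | mem q h => exact h
      | zero => rw [map_zero]; exact zero_mem J
      | add a b _ _ ha hb => rw [map_add]; exact add_mem ha hb
      | smul a b _ hb => rw [smul_eq_mul, map_mul]; exact hJideal a _ hb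
    obtain ⟨u, hu, n', hn', he⟩ := Submodule.mem_sup.1 hq₁J.2
    have hu1 : π u = 1 := by
      have h1 := congrArg Φ hq
      rw [map_add, map_one, RingHom.mem_ker.1 hq₂, add_zero] at h1
      have h2 := congrArg π he
      rw [map_add, LinearMap.mem_ker.1 hn' |> fun h => (show π n' = 0 from h), add_zero] at h2
      exact h2.trans h1
    refine ⟨rcon l u, ?_, ?_⟩
    · have h : ∀ z : R ⊗[k] A, rcon l (δ k A R z) = rcon l z ⊗ₜ[k] (1 : A) := by
        intro z
        induction z with
        | zero => simp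
        | add a b ha hb => simp only [map_add, TensorProduct.add_tmul, ha, hb]
        | tmul a b => rw [rcon_δ_tmul, hlinv, rcon_tmul, TensorProduct.smul_tmul]
      exact h u ▸ hFcon hu l
    · have h : rcon l (π u) = f (rcon l u) := rcon_rTensor l f.toLinearMap u
      rw [← h, hu1, Algebra.TensorProduct.one_def, rcon_tmul, hl1, one_smul]
      exact one_ne_zero
  let IR : Ideal R :=
    { carrier := {r | r ⊗ₜ[k] (1 : A) ∈ F}
      add_mem' := fun {a b} ha hb => by
        show (a + b) ⊗ₜ[k] (1 : A) ∈ F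
        rw [TensorProduct.add_tmul]; exact add_mem ha hb
      zero_mem' := by show (0 : R) ⊗ₜ[k] (1 : A) ∈ F; rw [TensorProduct.zero_tmul]; exact zero_mem F
      smul_mem' := fun a b hb => by
        show (a * b) ⊗ₜ[k] (1 : A) ∈ F
        rw [show (a * b) ⊗ₜ[k] (1 : A) = (b ⊗ₜ[k] (1 : A)) * (a ⊗ₜ[k] (1 : A)) by
          simp [Algebra.TensorProduct.tmul_mul_tmul, mul_comm]]
        exact hCmul hb (hCr a) }
  have hIR : IR = ⊤ := by
    by_contra hne
    obtain ⟨M, hM, hle⟩ := Ideal.exists_le_maximal IR hne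
    letI := Ideal.Quotient.field M
    haveI : Module.Finite k (R ⧸ M) := finite_of_finite_type_of_isJacobsonRing k _
    let σ : R ⧸ M →ₐ[k] K := IsAlgClosed.lift
    obtain ⟨r, hr, hfr⟩ := hpt (σ.comp (Ideal.Quotient.mkₐ k M))
    refine hfr ?_
    show σ (Ideal.Quotient.mk M r) = 0
    rw [Ideal.Quotient.eq_zero_iff_mem.2 (hle hr), map_zero]
  have h1 : (1 : R ⊗[k] A) ∈ F := (Ideal.eq_top_iff_one IR).1 hIR
  have htop : C = ⊤ := by
    refine top_le_iff.1 fun z _ => ?_
    induction z with
    | zero => exact zero_mem C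
    | add a b ha hb => exact add_mem (ha trivial) (hb trivial)
    | tmul r a =>
      have ha : ((1 : R) ⊗ₜ[k] a : R ⊗[k] A) ∈ C := by
        have : a ∈ Algebra.adjoin k (V₀ : Set A) := hadj ▸ trivial
        refine Algebra.adjoin_le (S := ((C.restrictScalars k).comap
          (Algebra.TensorProduct.includeRight : A →ₐ[k] R ⊗[k] A))) (fun v hv => ?_) this
        have h := (hF.1 h1).2 v hv
        rwa [one_mul] at h
      have := mul_mem (hCr r) ha
      rwa [Algebra.TensorProduct.tmul_mul_tmul, mul_one, one_mul] at this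
  haveI : Algebra.IsIntegral (R ⊗[k] R) (R ⊗[k] A) :=
    ⟨fun z => (mem_integralClosure_iff _ _).1 (show z ∈ C by rw [htop]; trivial)⟩
  exact Algebra.IsIntegral.finite

end Main

end Groth.Agent.PropAct
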