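import Groth.Agent.PropActLib.Alg
import Groth.Agent.HopfGalois.Main
import Mathlib

/-!
# Free actions of linearly reductive groups are Galois

If `A` is linearly reductive and `R ⊗ R → R ⊗ A` is surjective then `R` is faithfully flat over its
invariants `C` and `R ⊗_C R → R ⊗ A` is bijective.
-/

set_option autoImplicit false
set_option backward.isDefEq.respectTransparency false
set_option backward.isDefEq.respectTransparency.types false

noncomputable section

universe u

open TensorProduct WithConv

namespace Groth.Agent.PropAct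

open Groth.Agent.Comodule Groth.Agent.HopfGalois

variable {k : Type u} [Field k] {A : Type u} [CommRing A] [HopfAlgebra k A]
  {R : Type u} [CommRing R] [Algebra k R] [HopfRep.Comod k A R] [GLin.IsCoactAlg k A R]

/-- `u ⊗ a ↦ u₀ ⊗ u₁ S a`. -/
def untwist : R ⊗[k] A →ₐ[k] R ⊗[k] A :=
  Algebra.TensorProduct.lift (GLin.coactAlgHom k A R)
    ((Algebra.TensorProduct.includeRight : A →ₐ[k] R ⊗[k] A).comp (HopfAlgebra.antipodeAlgHom k A))
    fun _ _ => .all _ _

theorem untwist_coact (x : R) :
    untwist (k := k) (A := A) (GLin.coactAlgHom k A R x) = x ⊗ₜ[k] (1 : A) := by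
  have h := LinearMap.congr_fun (HopfRep.Comod.coassoc (k := k) (A := A) (V := R)) x
  simp only [LinearMap.comp_apply, LinearEquiv.coe_coe] at h
  have e : ∀ z : R ⊗[k] A, untwist (k := k) (A := A) (R := R) z =
      (LinearMap.mul' k A ∘ₗ (HopfAlgebra.antipode k).lTensor A).lTensor R
        (TensorProduct.assoc k R A A ((HopfRep.Comod.coact (k := k) (A := A)).rTensor A z)) := by
    intro z
    induction z with
    | zero => simp
    | add p q hp hq => simp only [map_add, hp, hq]
    | tmul p q =>
      rw [untwist, Algebra.TensorProduct.lift_tmul, LinearMap.rTensor_tmul, GLin.coactAlgHom_apply]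
      generalize HopfRep.Comod.coact (k := k) (A := A) p = y
      induction y with
      | zero => simp
      | add a b ha hb => simp only [map_add, add_mul, TensorProduct.add_tmul, ha, hb]
      | tmul a b => simp [Algebra.TensorProduct.tmul_mul_tmul]
  rw [GLin.coactAlgHom_apply, e, h, ← LinearMap.lTensor_comp_apply]
  have h2 : (LinearMap.mul' k A ∘ₗ (HopfAlgebra.antipode k).lTensor A) ∘ₗ CoalgebraStruct.comul =
      Algebra.linearMap k A ∘ₗ Coalgebra.counit (R := k) := LinearMap.ext fun a => by simp
  rw [h2, LinearMap.lTensor_comp_apply]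
  have h3 := LinearMap.congr_fun (HopfRep.Comod.counit_comp (k := k) (A := A) (V := R)) x
  simp only [LinearMap.comp_apply] at h3
  rw [h3]
  simp

/-- A surjective canonical map of a linearly reductive group is bijective and faithfully flat. -/
theorem galois_of_surjective (hA : HopfRep.IsLinearlyReductive k A) (hsurj : Function.Surjective (θ k A R)) :
    Function.Bijective (canB k A R) ∧ Module.FaithfullyFlat (GLin.invariants k A R) R := by
  classical
  obtain ⟨l, hl1, hlinv⟩ := exists_rightIntegral hA
  have ht : ∀ x : A, lev l (Coalgebra.comul (R := k) x) = algebraMap k A (l x) := fun x => by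
    rw [Algebra.algebraMap_eq_smul_one]; exact hlinv x
  let C := GLin.invariants k A R
  let π : R →ₗ[C] C := phi ht 1
  have hπ : ∀ x : R, ((π x : C) : R) = rcon l (GLin.coactAlgHom k A R x) := fun x => by
    show aev l (GLin.coactAlgHom k A R (1 * x)) = _
    rw [_root_.one_mul]
    generalize GLin.coactAlgHom k A R x = z
    induction z with
    | zero => simp
    | add p q hp hq => simp only [map_add, hp, hq]
    | tmul p q => simp [aev_tmul]
  have hπ1 : π 1 = 1 := Subtype.ext <| by
    rw [hπ, map_one, Algebra.TensorProduct.one_def, rcon_tmul, hl1, one_smul]; rfl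
  have hrl : ∀ (x : R) (z : R ⊗[k] A), rcon l ((x ⊗ₜ[k] (1 : A)) * z) = x * rcon l z := by
    intro x z
    induction z with
    | zero => simp
    | add p q hp hq => simp only [map_add, mul_add, hp, hq]
    | tmul p q => simp [Algebra.TensorProduct.tmul_mul_tmul]
  obtain ⟨σ₀, hσ₀⟩ := (θ k A R).toLinearMap.exists_rightInverse_of_surjective (LinearMap.range_eq_top.2 hsurj)
  let σ : A →ₗ[k] R ⊗[k] R := σ₀ ∘ₗ (Algebra.TensorProduct.includeRight : A →ₐ[k] R ⊗[k] A).toLinearMap
  have hσ : ∀ a, θ k A R (σ a) = (1 : R) ⊗ₜ[k] a := fun a => LinearMap.congr_fun hσ₀ _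
  let M : R ⊗[k] A →ₗ[k] R ⊗[k] R :=
    TensorProduct.lift (LinearMap.mk₂ k (fun (y : R) (a : A) => (y ⊗ₜ[k] (1 : R)) * σ a)
      (fun y y' a => by rw [TensorProduct.add_tmul, add_mul]) (fun c y a => by rw [← TensorProduct.smul_tmul', smul_mul_assoc])
      (fun y a a' => by rw [map_add, mul_add]) (fun c y a => by rw [map_smul, mul_smul_comm]))
  have hθM : ∀ w, θ k A R (M w) = w := by
    intro w
    induction w with
    | zero => simp
    | add p q hp hq => simp only [map_add, hp, hq]
    | tmul y a =>
      show θ k A R ((y ⊗ₜ[k] (1 : R)) * σ a) = _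
      rw [map_mul, hσ]
      simp [θ, GLin.IsCoactAlg.coact_one, Algebra.TensorProduct.tmul_mul_tmul]
  have hMl : ∀ (y : R) (w : R ⊗[k] A), M ((y ⊗ₜ[k] (1 : A)) * w) = (y ⊗ₜ[k] (1 : R)) * M w := by
    intro y w
    induction w with
    | zero => simp
    | add p q hp hq => simp only [map_add, mul_add, hp, hq]
    | tmul p q =>
      rw [Algebra.TensorProduct.tmul_mul_tmul, _root_.one_mul]
      show ((y * p) ⊗ₜ[k] (1 : R)) * σ q = (y ⊗ₜ[k] (1 : R)) * ((p ⊗ₜ[k] (1 : R)) * σ q)
      rw [← mul_assoc, Algebra.TensorProduct.tmul_mul_tmul, _root_.mul_one]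
  let P : R ⊗[k] R →ₗ[k] C ⊗[k] R := (π.restrictScalars k).rTensor R
  let μ : C ⊗[k] R →ₗ[k] R := TensorProduct.lift (LinearMap.mk₂ k (fun (c : C) (r : R) => (c : R) * r)
      (fun c c' r => by simp [add_mul]) (fun a c r => by simp) (fun c r r' => by simp [mul_add])
      (fun a c r => by simp))
  have hμP : ∀ z, μ (P z) = rcon l (untwist (k := k) (A := A) (θ k A R z)) := by
    intro z
    induction z with
    | zero => simp
    | add p q hp hq => simp only [map_add, hp, hq]
    | tmul y r =>
      show ((π y : C) : R) * r = _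
      rw [show θ k A R (y ⊗ₜ[k] r) = (y ⊗ₜ[k] (1 : A)) * GLin.coactAlgHom k A R r from rfl, map_mul,
        untwist_coact, show untwist (k := k) (A := A) (y ⊗ₜ[k] (1 : A)) = GLin.coactAlgHom k A R y by simp [untwist, ← Algebra.TensorProduct.one_def],
        mul_comm (GLin.coactAlgHom k A R y), hrl, hπ, mul_comm]
  let Φ₀ : R →ₗ[k] C ⊗[k] R := P ∘ₗ M ∘ₗ (GLin.coactAlgHom k A R).toLinearMap
  have hμΦ : ∀ x, μ (Φ₀ x) = x := fun x => by
    show μ (P (M _)) = x
    rw [hμP, hθM]
    show rcon l (untwist (k := k) (A := A) (GLin.coactAlgHom k A R x)) = x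
    rw [untwist_coact, rcon_tmul, hl1, one_smul]
  -- projectivity
  let μ' : C ⊗[k] R →ₗ[C] R :=
    { μ with
      map_smul' := fun c z => by
        show μ (c • z) = c • μ z
        induction z with
        | zero => simp
        | add p q hp hq => simp only [smul_add, map_add, hp, hq]
        | tmul p q =>
          show ((c • p : C) : R) * q = c • ((p : R) * q)
          rw [Subalgebra.smul_def, smul_eq_mul, smul_eq_mul, Subalgebra.coe_mul, mul_assoc] }
  let Φ : R →ₗ[C] C ⊗[k] R :=
    { Φ₀ with
      map_smul' := fun c x => by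
        show P (M (GLin.coactAlgHom k A R ((c : R) * x))) = c • P (M (GLin.coactAlgHom k A R x))
        rw [map_mul, coact_inv, hMl]
        generalize M (GLin.coactAlgHom k A R x) = z
        induction z with
        | zero => simp
        | add p q hp hq => simp only [map_add, smul_add, mul_add, hp, hq]
        | tmul p q =>
          rw [Algebra.TensorProduct.tmul_mul_tmul, _root_.one_mul]
          show π ((c : R) * p) ⊗ₜ[k] q = c • (π p ⊗ₜ[k] q)
          rw [TensorProduct.smul_tmul', ← map_smul, Subalgebra.smul_def, smul_eq_mul] }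
  haveI : Module.Flat C R := Module.Flat.of_retract Φ μ' (LinearMap.ext hμΦ)
  refine ⟨⟨?_, ?_⟩, ⟨fun {m} hm htop => hm.ne_top ((Ideal.eq_top_iff_one m).2 ?_)⟩⟩
  · let Q : R ⊗[k] A →ₗ[k] R ⊗[k] R →ₗ[k] R ⊗[C] R :=
      LinearMap.mk₂ k (fun z w => TensorProduct.lift (LinearMap.mk₂ k
          (fun (y r : R) => (rcon l (GLin.coactAlgHom k A R y * z)) ⊗ₜ[C] r)
          (fun y y' r => by rw [map_add, add_mul, map_add, TensorProduct.add_tmul])
          (fun c y r => by rw [map_smul, smul_mul_assoc, map_smul, TensorProduct.smul_tmul'])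
          (fun y r r' => by rw [TensorProduct.tmul_add])
          (fun c y r => by rw [TensorProduct.tmul_smul])) w)
        (fun z z' w => by
          induction w with
          | zero => simp
          | add p q hp hq => simp only [map_add, hp, hq]; abel
          | tmul p q => simp [mul_add, TensorProduct.add_tmul])
        (fun c z w => by
          induction w with
          | zero => simp
          | add p q hp hq => simp only [map_add, smul_add, hp, hq]
          | tmul p q => simp [TensorProduct.smul_tmul'])
        (fun z w w' => map_add _ _ _) (fun c z w => map_smul _ _ _)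
    have hQ : ∀ z y r, Q z (y ⊗ₜ[k] r) = (rcon l (GLin.coactAlgHom k A R y * z)) ⊗ₜ[C] r := fun z y r => rfl
    have hQl : ∀ (x : R) z w, Q ((x ⊗ₜ[k] (1 : A)) * z) w = (x ⊗ₜ[C] (1 : R)) * Q z w := by
      intro x z w
      induction w with
      | zero => simp
      | add p q hp hq => simp only [map_add, mul_add, hp, hq]
      | tmul p q => rw [hQ, hQ, mul_left_comm, hrl, Algebra.TensorProduct.tmul_mul_tmul, _root_.one_mul]
    let H : (R ⊗[k] A) ⊗[k] A →ₗ[k] R ⊗[C] R := TensorProduct.lift (Q.compl₂ σ)
    let F : R ⊗[k] A →ₗ[k] R ⊗[C] R :=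
      H ∘ₗ (TensorProduct.assoc k R A A).symm.toLinearMap ∘ₗ (CoalgebraStruct.comul (R := k) (A := A)).lTensor R
    have hFl : ∀ (x : R) w, F ((x ⊗ₜ[k] (1 : A)) * w) = (x ⊗ₜ[C] (1 : R)) * F w := by
      intro x w
      induction w with
      | zero => simp
      | add p q hp hq => simp only [map_add, mul_add, hp, hq]
      | tmul p q =>
        rw [Algebra.TensorProduct.tmul_mul_tmul, _root_.one_mul]
        simp only [F, LinearMap.comp_apply, LinearMap.lTensor_tmul, LinearEquiv.coe_coe]
        generalize CoalgebraStruct.comul (R := k) q = y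
        induction y with
        | zero => simp
        | add a b ha hb => simp only [map_add, TensorProduct.tmul_add, mul_add, ha, hb]
        | tmul a b =>
          simp only [TensorProduct.assoc_symm_tmul, H, TensorProduct.lift.tmul, LinearMap.compl₂_apply]
          rw [← hQl, Algebra.TensorProduct.tmul_mul_tmul, _root_.one_mul]
    have hFc : ∀ x : R, F (GLin.coactAlgHom k A R x) = (1 : R) ⊗ₜ[C] x := by
      intro x
      have h := LinearMap.congr_fun (HopfRep.Comod.coassoc (k := k) (A := A) (V := R)) x
      simp only [LinearMap.comp_apply, LinearEquiv.coe_coe] at h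
      simp only [F, LinearMap.comp_apply, GLin.coactAlgHom_apply, LinearEquiv.coe_coe]
      rw [← h, LinearEquiv.symm_apply_apply]
      let ν : C ⊗[k] R →ₗ[k] R ⊗[C] R :=
          TensorProduct.lift (LinearMap.mk₂ k (fun (c : C) (r : R) => (c : R) ⊗ₜ[C] r)
            (fun c c' r => by rw [Subalgebra.coe_add, TensorProduct.add_tmul])
            (fun a c r => by rw [Subalgebra.coe_smul, TensorProduct.smul_tmul'])
            (fun c r r' => by rw [TensorProduct.tmul_add]) (fun a c r => by rw [TensorProduct.tmul_smul]))
      have key : ∀ w : R ⊗[k] A, H ((HopfRep.Comod.coact (k := k) (A := A)).rTensor A w) = ν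
            (P (M w)) := by
        intro w
        induction w with
        | zero => simp
        | add p q hp hq => simp only [map_add, hp, hq]
        | tmul y a =>
          show Q (HopfRep.Comod.coact (k := k) (A := A) y) (σ a) = ν (P ((y ⊗ₜ[k] (1 : R)) * σ a))
          generalize σ a = s
          induction s with
          | zero => simp
          | add p q hp hq => simp only [map_add, mul_add, hp, hq]
          | tmul p q =>
            rw [Algebra.TensorProduct.tmul_mul_tmul, _root_.one_mul, hQ]
            show _ = ((π (y * p) : C) : R) ⊗ₜ[C] q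
            rw [hπ, map_mul (GLin.coactAlgHom k A R), mul_comm (GLin.coactAlgHom k A R y)]; rfl
      rw [key]
      conv_rhs => rw [← hμΦ x]
      show _ = (1 : R) ⊗ₜ[C] μ (P (M (GLin.coactAlgHom k A R x)))
      rw [GLin.coactAlgHom_apply]
      generalize P (M (HopfRep.Comod.coact (k := k) (A := A) x)) = z
      induction z with
      | zero => simp
      | add p q hp hq => simp only [map_add, TensorProduct.tmul_add, hp, hq]
      | tmul c r =>
        show (c : R) ⊗ₜ[C] r = (1 : R) ⊗ₜ[C] ((c : R) * r)
        rw [show (c : R) = c • (1 : R) by rw [Subalgebra.smul_def, smul_eq_mul, _root_.mul_one],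
          TensorProduct.smul_tmul, smul_mul_assoc, _root_.one_mul]
    have hleft : ∀ z, F (canB k A R z) = z := by
      intro z
      induction z with
      | zero => simp
      | add p q hp hq => simp only [map_add, hp, hq]
      | tmul p q => rw [canB_tmul, hFl, hFc, Algebra.TensorProduct.tmul_mul_tmul, _root_.one_mul, _root_.mul_one]
    exact Function.LeftInverse.injective hleft
  · intro w
    obtain ⟨z, rfl⟩ := hsurj w
    induction z with
    | zero => exact ⟨0, by simp⟩
    | add p q hp hq =>
      obtain ⟨a, ha⟩ := hp; obtain ⟨b, hb⟩ := hq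
      exact ⟨a + b, by rw [map_add, map_add, ha, hb]⟩
    | tmul p q => exact ⟨p ⊗ₜ q, by rw [canB_tmul]; rfl⟩
  · have key : ∀ y ∈ m • (⊤ : Submodule C R), π y ∈ m := by
      intro y hy
      refine Submodule.smul_induction_on hy (fun c hc r _ => ?_) (fun a b ha hb => by rw [map_add]; exact m.add_mem ha hb)
      rw [map_smul, smul_eq_mul]
      exact m.mul_mem_right _ hc
    have := key 1 (by rw [htop]; trivial)
    rwa [hπ1] at this

end Groth.Agent.PropAct
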