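import Groth.Agent.PropActLib.Main
import Groth.Agent.PropActLib.Galois
import Groth.Agent.MonoFibre.Kernel
import Groth.Agent.GitQuot.Torsor
import Groth.Agent.DSMapLib.Exact
import Groth.Prelude.Def_GLinSh

/-!
# Free actions with affine geometric quotient map are torsors
-/

set_option autoImplicit false
set_option backward.isDefEq.respectTransparency false
set_option backward.isDefEq.respectTransparency.types false

noncomputable section

universe u

open CategoryTheory MonoidalCategory CartesianMonoidalCategory MonObj AlgebraicGeometry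
open scoped TensorProduct

namespace Groth.Agent.PropAct

attribute [-instance] CategoryTheory.Hom.commGroup

open Groth.Agent.RedQuot

local instance braidedAlgSpecOf' (k : Type u) [CommRing k] : (algSpec (CommRingCat.of k)).Braided :=
  braidedAlgSpec

variable {k : Type u} [Field k] {G X Y : Over (Spec (CommRingCat.of k))} [GrpObj G]

/-- The graph at a point is the pullback of the graph. -/
theorem isPullback_psi (a : AlgGrp.Action G X) {T : Over (Spec (CommRingCat.of k))} (x : T ⟶ X) :
    IsPullback (G ◁ x) (GIT.psi a x) (GIT.psi a (𝟙 X)) (X ◁ x) := by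
  have w : GIT.psi a x ≫ (X ◁ x) = (G ◁ x) ≫ GIT.psi a (𝟙 X) := by
    apply CartesianMonoidalCategory.hom_ext <;> simp [GIT.psi]
  refine ⟨⟨w.symm⟩, ⟨Limits.PullbackCone.IsLimit.mk _
    (fun s => lift (s.fst ≫ fst G X) (s.snd ≫ snd X T)) (fun s => ?_) (fun s => ?_) (fun s m h₁ h₂ => ?_)⟩⟩
  · have hs := congrArg (· ≫ snd X X) s.condition
    simp only [GIT.psi, Category.assoc, lift_snd, whiskerLeft_snd] at hs
    apply CartesianMonoidalCategory.hom_ext
    · simp
    · simp [hs]
  · have hs := congrArg (· ≫ snd X X) s.condition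
    have hf := congrArg (· ≫ fst X X) s.condition
    simp only [GIT.psi, Category.assoc, lift_snd, whiskerLeft_snd, lift_fst, whiskerLeft_fst,
      MonoidalCategory.whiskerLeft_id, Category.id_comp] at hs hf
    apply CartesianMonoidalCategory.hom_ext
    · simp only [GIT.psi, Category.assoc, lift_fst, lift_whiskerLeft_assoc]
      rw [← hf]
      congr 1
      apply CartesianMonoidalCategory.hom_ext
      · simp
      · simp [hs]
    · simp [GIT.psi]
  · have e2 : m ≫ snd G T = s.snd ≫ snd X T := by
      rw [← h₂]; simp [GIT.psi]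
    apply CartesianMonoidalCategory.hom_ext
    · rw [lift_fst, ← h₁]; simp
    · rw [lift_snd, e2]

/-- Trivial geometric stabilisers give a trivial stabiliser scheme. -/
theorem isIso_stab [LocallyOfFiniteType G.hom] [LocallyOfFiniteType X.hom] (a : AlgGrp.Action G X)
    (hstab : ∀ (Ω : Type u) [Field Ω] [IsAlgClosed Ω] (P : Over (Spec (CommRingCat.of k)))
        (_ : P.left ≅ Spec (CommRingCat.of Ω)) (x : P ⟶ X), IsIso (GLinSh.stabTo a x)) :
    IsIso (Limits.pullback.snd (GIT.psi a (𝟙 X)).left (lift (𝟙 X) (𝟙 X)).left) := by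
  let ψ := GIT.psi a (𝟙 X)
  let d := lift (𝟙 X) (𝟙 X)
  let St := Limits.pullback.snd ψ.left d.left
  haveI : LocallyOfFiniteType St := by
    haveI : LocallyOfFiniteType (G ⊗ X).hom :=
      inferInstanceAs (LocallyOfFiniteType (Limits.pullback.fst G.hom X.hom ≫ G.hom))
    haveI : LocallyOfFiniteType (ψ.left ≫ (X ⊗ X).hom) := by rw [Over.w ψ]; infer_instance
    haveI : LocallyOfFiniteType ψ.left := locallyOfFiniteType_of_comp _ (X ⊗ X).hom
    exact MorphismProperty.pullback_snd _ _ inferInstance
  haveI : Mono St := MonoFibre.mono_of_mono_fibres St fun y => by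
    let κ := X.left.residueField y
    let Ω := AlgebraicClosure κ
    let p : Spec (CommRingCat.of Ω) ⟶ Spec κ := Spec.map (CommRingCat.ofHom (algebraMap κ Ω))
    let T : Over (Spec (CommRingCat.of k)) := Over.mk ((p ≫ X.left.fromSpecResidueField y) ≫ X.hom)
    let x : T ⟶ X := Over.homMk (p ≫ X.left.fromSpecResidueField y) rfl
    have h0 : IsIso (GLinSh.stabTo a x) := hstab Ω T (Iso.refl _) x
    have sqA : IsPullback _ (GLinSh.stabTo a x) ψ.left ((lift x (𝟙 T)).left ≫ (X ◁ x).left) :=
      (IsPullback.of_hasPullback (GIT.psi a x).left (lift x (𝟙 T)).left).paste_horiz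
        ((isPullback_psi a x).map (Over.forget _))
    have sqB : IsPullback _ (Limits.pullback.snd St x.left) ψ.left (x.left ≫ d.left) :=
      (IsPullback.of_hasPullback St x.left).paste_horiz (IsPullback.of_hasPullback ψ.left d.left)
    have hb : (lift x (𝟙 T)).left ≫ (X ◁ x).left = x.left ≫ d.left := by
      rw [← Over.comp_left, ← Over.comp_left]
      congr 1
      apply CartesianMonoidalCategory.hom_ext <;> simp [d]
    rw [hb] at sqA
    have h1 : IsIso (Limits.pullback.snd St (p ≫ X.left.fromSpecResidueField y)) := by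
      show IsIso (Limits.pullback.snd St x.left)
      rw [← sqB.isoIsPullback_hom_snd _ _ sqA]
      exact inferInstance
    let g := Limits.pullback.snd St (X.left.fromSpecResidueField y)
    have h2 : IsIso (Limits.pullback.snd g p) := by
      rw [← Limits.pullbackLeftPullbackSndIso_hom_snd St (X.left.fromSpecResidueField y) p]
      infer_instance
    have h3 : MorphismProperty.isomorphisms Scheme (Limits.pullback.fst p g) := by
      rw [← Limits.pullbackSymmetry_hom_comp_snd]
      exact inferInstanceAs (IsIso _)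
    haveI : IsIso g := MorphismProperty.of_pullback_fst_of_descendsAlong (P := MorphismProperty.isomorphisms Scheme)
      (Q := @Surjective ⊓ @Flat ⊓ @QuasiCompact) (f := p)
      ⟨⟨(inferInstance : Surjective p), (inferInstance : Flat p)⟩, (inferInstance : QuasiCompact p)⟩ h3
    show Mono g
    infer_instance
  haveI : IsSplitEpi St := IsSplitEpi.mk'
    ⟨Limits.pullback.lift (lift (1 : X ⟶ G) (𝟙 X)).left (𝟙 _) (by
      rw [Category.id_comp, ← Over.comp_left]
      congr 1
      apply CartesianMonoidalCategory.hom_ext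
      · simp only [ψ, d, GIT.psi, Category.assoc, lift_fst, MonoidalCategory.whiskerLeft_id, Category.id_comp]
        exact act_one a _
      · simp [ψ, d, GIT.psi]), Limits.pullback.lift_snd _ _ _⟩
  exact isIso_of_mono_of_isSplitEpi St

/-- A trivial stabiliser scheme makes the graph a monomorphism. -/
theorem mono_psi (a : AlgGrp.Action G X)
    [IsIso (Limits.pullback.snd (GIT.psi a (𝟙 X)).left (lift (𝟙 X) (𝟙 X)).left)] :
    Mono (GIT.psi a (𝟙 X)).left := by
  let ψ := GIT.psi a (𝟙 X)
  let d := lift (𝟙 X) (𝟙 X)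
  let St := Limits.pullback.snd ψ.left d.left
  haveI : IsIso St := inferInstanceAs (IsIso (Limits.pullback.snd _ _))
  constructor
  intro T' u v huv
  let T : Over (Spec (CommRingCat.of k)) := Over.mk (u ≫ (G ⊗ X).hom)
  let u' : T ⟶ G ⊗ X := Over.homMk u rfl
  let v' : T ⟶ G ⊗ X := Over.homMk v (by
    show v ≫ (G ⊗ X).hom = u ≫ (G ⊗ X).hom
    rw [← Over.w ψ, ← reassoc_of% huv])
  have h : u' ≫ ψ = v' ≫ ψ := Over.OverMorphism.ext huv
  let g₁ := u' ≫ fst G X
  let g₂ := v' ≫ fst G X
  let x := u' ≫ snd G X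
  have hx : v' ≫ snd G X = x := by
    have h' := congrArg (· ≫ snd X X) h
    simp only [ψ, GIT.psi, Category.assoc, lift_snd] at h'
    exact h'.symm
  have hu : u' = lift g₁ x := by apply CartesianMonoidalCategory.hom_ext <;> simp [g₁, x]
  have hv : v' = lift g₂ x := by apply CartesianMonoidalCategory.hom_ext <;> simp [g₂, hx]
  have hg : lift g₁ x ≫ a.act = lift g₂ x ≫ a.act := by
    have h' := congrArg (· ≫ fst X X) h
    simp only [ψ, GIT.psi, Category.assoc, lift_fst, MonoidalCategory.whiskerLeft_id, Category.id_comp] at h'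
    rw [← hu, ← hv]; exact h'
  have hw : lift (g₁⁻¹ * g₂) x ≫ ψ = x ≫ d := by
    apply CartesianMonoidalCategory.hom_ext
    · simp only [ψ, d, GIT.psi, Category.assoc, lift_fst, MonoidalCategory.whiskerLeft_id, Category.id_comp,
        Category.comp_id]
      rw [← act_mul, ← hg, act_mul, inv_mul_cancel, act_one]
    · simp [ψ, d, GIT.psi]
  have hsec : (lift (1 : X ⟶ G) (𝟙 X)).left ≫ ψ.left = 𝟙 X.left ≫ d.left := by
    rw [Category.id_comp, ← Over.comp_left]
    congr 1
    apply CartesianMonoidalCategory.hom_ext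
    · simp only [ψ, d, GIT.psi, Category.assoc, lift_fst, MonoidalCategory.whiskerLeft_id, Category.id_comp]
      exact act_one a _
    · simp [ψ, d, GIT.psi]
  have hq : Limits.pullback.lift (lift (g₁⁻¹ * g₂) x).left x.left (by rw [← Over.comp_left, ← Over.comp_left, hw]) =
      x.left ≫ Limits.pullback.lift (f := ψ.left) (g := d.left) (lift (1 : X ⟶ G) (𝟙 X)).left (𝟙 _) hsec := by
    rw [← cancel_mono St]
    simp [St]
  have h1 := congrArg (fun q => q ≫ Limits.pullback.fst ψ.left d.left) hq
  simp only [Limits.pullback.lift_fst, Category.assoc] at h1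
  have h2 : lift (g₁⁻¹ * g₂) x = lift (1 : T ⟶ G) x := by
    refine (Over.OverMorphism.ext h1 : lift (g₁⁻¹ * g₂) x = x ≫ lift (1 : X ⟶ G) (𝟙 X)).trans ?_
    rw [comp_lift, Category.comp_id, MonObj.comp_one]
  have h3 := congrArg (· ≫ fst G X) h2
  simp only [lift_fst] at h3
  have h4 : u' = v' := by rw [hu, hv, inv_mul_eq_one.1 h3]
  exact congrArg CommaMorphism.left h4

attribute [local instance] coordAlg

/-- A free closed action on an affine scheme is a torsor over its affine quotient. -/
theorem torsor_affine {A : Type u} [CommRing A] [HopfAlgebra k A] [Algebra.FiniteType k A]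
    (hA : HopfRep.IsLinearlyReductive k A) (e : CoactBr.sp k A ≅ G) [IsMonHom e.hom]
    [IsAffine X.left] [IsAffine Y.left] (a : AlgGrp.Action G X) (φ : X ⟶ Y)
    (hinj : Function.Injective φ.left.appTop)
    (hrange : Set.range φ.left.appTop = {f : Γ(X.left, ⊤) | a.act.left.appTop f = (snd G X).left.appTop f})
    [IsClosedImmersion (GIT.psi a (𝟙 X)).left] :
    Flat φ.left ∧ Surjective φ.left ∧ IsPullback a.act.left (snd G X).left φ.left φ.left := by
  obtain ⟨c, hca, hco⟩ := exists_coaction e a
  let R : Type u := Γ(X.left, ⊤)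
  haveI hθ : IsClosedImmersion (CoactBr.pt (θ k A R)).left :=
    (theta_prop_iff e a hco @IsClosedImmersion).2 inferInstance
  have hsurj : Function.Surjective (θ k A R) := by
    rw [CoactBr.pt_left] at hθ
    have h := (IsClosedImmersion.isAffine_surjective_of_isAffine
      (f := Spec.map (CommRingCat.ofHom (θ k A R).toRingHom))).2
    intro y
    obtain ⟨z, hz⟩ := h ((Scheme.ΓSpecIso _).inv y)
    refine ⟨(Scheme.ΓSpecIso (CommRingCat.of (R ⊗[k] R))).hom z, ?_⟩
    have := congrArg (Scheme.ΓSpecIso (CommRingCat.of (R ⊗[k] A))).hom hz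
    rw [← CommRingCat.comp_apply, Scheme.ΓSpecIso_naturality] at this
    simpa using this
  obtain ⟨hbij, hff⟩ := galois_of_surjective hA hsurj
  let C := GLin.invariants k A R
  let q : Γ(Y.left, ⊤) →ₐ[k] R := coordMap φ
  have hqC : ∀ y, q y ∈ C := fun y =>
    (mem_invariants_iff_appTop e a hco _).1 ((Set.ext_iff.1 hrange _).1 ⟨y, rfl⟩)
  let q' : Γ(Y.left, ⊤) →ₐ[k] C := q.codRestrict C hqC
  have hq' : Function.Bijective q' := by
    refine ⟨fun y y' h => hinj (congrArg Subtype.val h), fun c' => ?_⟩
    obtain ⟨y, hy⟩ := (Set.ext_iff.1 hrange (c' : R)).2 ((mem_invariants_iff_appTop e a hco _).2 c'.2)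
    exact ⟨y, Subtype.ext hy⟩
  let eY : Spec (CommRingCat.of C) ⟶ Y.left := (CoactBr.pt q').left ≫ (eX Y).hom.left
  haveI : IsIso (CoactBr.pt q').left := by
    rw [CoactBr.pt_left]
    haveI : IsIso (CommRingCat.ofHom q'.toRingHom) := by
      rw [ConcreteCategory.isIso_iff_bijective]; exact hq'
    infer_instance
  haveI : IsIso (eX X).hom.left := inferInstanceAs (IsIso ((Over.forget _).map (eX X).hom))
  haveI : IsIso (eX Y).hom.left := inferInstanceAs (IsIso ((Over.forget _).map (eX Y).hom))
  haveI : IsIso eY := inferInstance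
  let v : Spec (CommRingCat.of R) ⟶ Spec (CommRingCat.of C) := Spec.map (CommRingCat.ofHom C.val.toRingHom)
  have hv : (eX X).hom.left ≫ φ.left = v ≫ eY := by
    rw [← Over.comp_left, ← pt_coordMap, show coordMap φ = C.val.comp q' from AlgHom.ext fun y => rfl,
      CoactBr.pt_comp, Over.comp_left, Over.comp_left, Category.assoc, CoactBr.pt_left C.val]
  have hffv : Flat v ∧ Surjective v := by
    rw [flat_and_surjective_SpecMap_iff]
    exact (RingHom.faithfullyFlat_algebraMap_iff (R := C) (S := R)).2 hff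
  -- the cartesian square in coordinates
  let iL : R →ₐ[k] R ⊗[k] A := Algebra.TensorProduct.includeLeft
  let iC : R →ₐ[k] R ⊗[k] A := GLin.coactAlgHom k A R
  have hpush : IsPushout (CommRingCat.ofHom C.val.toRingHom) (CommRingCat.ofHom C.val.toRingHom)
      (CommRingCat.ofHom iL.toRingHom) (CommRingCat.ofHom iC.toRingHom) := by
    have he := RingEquiv.ofBijective (HopfGalois.canB k A R).toRingHom hbij
    refine (CommRingCat.isPushout_tensorProduct C R R).of_iso (Iso.refl _) (Iso.refl _) (Iso.refl _)
      (RingEquiv.ofBijective (HopfGalois.canB k A R).toRingHom hbij).toCommRingCatIso ?_ ?_ ?_ ?_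
    · rfl
    · rfl
    · ext r
      show HopfGalois.canB k A R (r ⊗ₜ[C] (1 : R)) = _
      rw [HopfGalois.canB_tmul, map_one, _root_.mul_one]
      rfl
    · ext r
      show HopfGalois.canB k A R ((1 : R) ⊗ₜ[C] r) = _
      rw [HopfGalois.canB_tmul, ← Algebra.TensorProduct.one_def, _root_.one_mul]
      rfl
  let u := univXG (X := X) e ≫ shear.hom
  haveI : IsIso u.left := inferInstanceAs (IsIso ((Over.forget _).map u))
  have hsnd : (CoactBr.pt iL).left ≫ (eX X).hom.left = u.left ≫ (snd G X).left := by
    rw [← Over.comp_left, ← Over.comp_left, show u ≫ snd G X = univXG (X := X) e ≫ (shear.hom ≫ snd G X) from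
      Category.assoc _ _ _, shear_snd, univXG_fst]
  have hact : (CoactBr.pt iC).left ≫ (eX X).hom.left = u.left ≫ a.act.left := by
    rw [← Over.comp_left, ← Over.comp_left, show u ≫ a.act = univXG (X := X) e ≫ (shear.hom ≫ a.act) from
      Category.assoc _ _ _, show shear.hom ≫ a.act = rX a from rfl, univXG_rX hco]
  have hsq : IsPullback (CoactBr.pt iC).left (CoactBr.pt iL).left v v := by
    rw [CoactBr.pt_left, CoactBr.pt_left]
    exact (isPullback_SpecMap_of_isPushout _ _ _ _ hpush).flip
  have hP : IsPullback a.act.left (snd G X).left φ.left φ.left :=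
    hsq.of_iso (asIso u.left) (asIso (eX X).hom.left) (asIso (eX X).hom.left) (asIso eY) hact hsnd hv.symm hv.symm
  have hiff : ∀ (P : MorphismProperty Scheme.{u}) [P.RespectsIso], P v → P φ.left := fun P _ h => by
    rwa [← P.cancel_left_of_respectsIso (eX X).hom.left, hv, P.cancel_right_of_respectsIso]
  exact ⟨hiff @Flat hffv.1, hiff @Surjective hffv.2, hP⟩

/-- An invariant function on the part over an open is an invariant section. -/
theorem isInvSection_of_invariant (a : AlgGrp.Action G X) (φ : X ⟶ Y) (V : Y.left.Opens)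
    (a' : AlgGrp.Action G (resX φ V)) (ha' : a'.act ≫ resPr φ V = (G ◁ resPr φ V) ≫ a.act)
    {f : Γ(X.left, φ.left ⁻¹ᵁ V)}
    (hf : a'.act.left.appTop ((φ.left ⁻¹ᵁ V).ι.appLE _ ⊤ (Scheme.Opens.ι_preimage_self _).ge f) =
      (snd G (resX φ V)).left.appTop ((φ.left ⁻¹ᵁ V).ι.appLE _ ⊤ (Scheme.Opens.ι_preimage_self _).ge f)) :
    GIT.IsInvSection a φ V f := by
  let O := φ.left ⁻¹ᵁ V
  let pr := resPr φ V
  have h1' : (G ◁ pr).left ≫ a.act.left = a'.act.left ≫ O.ι := (congrArg CommaMorphism.left ha').symm
  have h2' : (G ◁ pr).left ≫ (snd G X).left = (snd G (resX φ V)).left ≫ O.ι := by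
    rw [← Over.comp_left, whiskerLeft_snd]; rfl
  let P := a.act.left ⁻¹ᵁ O ⊓ (snd G X).left ⁻¹ᵁ O
  have hw : (⊤ : (G ⊗ resX φ V).left.Opens) ≤ (G ◁ pr).left ⁻¹ᵁ P := by
    intro z _
    refine ⟨?_, ?_⟩
    · show a.act.left ((G ◁ pr).left z) ∈ O
      rw [← Scheme.Hom.comp_apply, h1']; exact (a'.act.left z).2
    · show (snd G X).left ((G ◁ pr).left z) ∈ O
      rw [← Scheme.Hom.comp_apply, h2']; exact ((snd G (resX φ V)).left z).2
  have sq := (isPullback_whiskerLeft (G := G) pr).map (Over.forget _)
  haveI : IsOpenImmersion pr.left := inferInstanceAs (IsOpenImmersion O.ι)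
  haveI : IsOpenImmersion (G ◁ pr).left := MorphismProperty.of_isPullback sq.flip ‹IsOpenImmersion pr.left›
  have hP : P ≤ (G ◁ pr).left.opensRange := fun z hz => by
    obtain ⟨z', hz', -⟩ := exists_point_of_isPullback sq z ⟨(snd G X).left z, hz.2⟩ rfl
    exact ⟨z', hz'⟩
  refine (GitTorsor.bijective_appLE (G ◁ pr).left hP (le_antisymm hw le_top)).1 ?_
  have e1 : a'.act.left.appTop (O.ι.appLE O ⊤ (Scheme.Opens.ι_preimage_self O).ge f) =
      (G ◁ pr).left.appLE P ⊤ hw (a.act.left.appLE O P inf_le_left f) := by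
    rw [appTop_eq_appLE]
    refine (CommRingCat.comp_apply _ _ _).symm.trans (Eq.trans ?_ (CommRingCat.comp_apply _ _ _))
    erw [Scheme.Hom.appLE_comp_appLE, Scheme.Hom.appLE_comp_appLE]
    exact congr($(GitQuot.appLE_congr h1'.symm _ _) f)
  have e2 : (snd G (resX φ V)).left.appTop (O.ι.appLE O ⊤ (Scheme.Opens.ι_preimage_self O).ge f) =
      (G ◁ pr).left.appLE P ⊤ hw ((snd G X).left.appLE O P inf_le_right f) := by
    rw [appTop_eq_appLE]
    refine (CommRingCat.comp_apply _ _ _).symm.trans (Eq.trans ?_ (CommRingCat.comp_apply _ _ _))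
    erw [Scheme.Hom.appLE_comp_appLE, Scheme.Hom.appLE_comp_appLE]
    exact congr($(GitQuot.appLE_congr h2'.symm _ _) f)
  exact e1.symm.trans (hf.trans e2)

/-- A free action with affine geometric quotient map is a torsor. -/
theorem torsor_of_free [IsAffine G.left] [LocallyOfFiniteType G.hom] [QuasiCompact G.hom]
    [LocallyOfFiniteType X.hom] [QuasiCompact X.hom] [IsSeparated X.hom]
    {A : Type u} [CommRing A] [HopfAlgebra k A] [Algebra.FiniteType k A] (hA : HopfRep.IsLinearlyReductive k A)
    [IsDomain (AlgebraicClosure k ⊗[k] A)] (e : CoactBr.sp k A ≅ G) [IsMonHom e.hom]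
    (a : AlgGrp.Action G X)
    [IsIso (Limits.pullback.snd (GIT.psi a (𝟙 X)).left (lift (𝟙 X) (𝟙 X)).left)]
    (φ : X ⟶ Y) (h : GIT.IsGeomQuot a φ) [IsAffineHom φ.left] :
    Flat φ.left ∧ Surjective φ.left ∧ IsPullback a.act (snd G X) φ φ := by
  let ψ := GIT.psi a (𝟙 X)
  haveI := lqf_psi a
  haveI := mono_psi a
  have hc := GitQuot.isClosedAction_of_isGeomQuot a φ h
  have hloc : ∀ U : Y.left.Opens, IsAffineOpen U →
      ∃ aU : AlgGrp.Action G (resX φ U), aU.act ≫ resPr φ U = (G ◁ resPr φ U) ≫ a.act ∧
        Flat (φ.left ∣_ U) ∧ IsPullback aU.act.left (snd G (resX φ U)).left (φ.left ∣_ U) (φ.left ∣_ U) := by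
    intro U hU
    let j := resPr φ U
    obtain ⟨aU, haU, hiU⟩ := GitQuot.exists_action a h.inv (isPullback_res φ U)
    haveI : IsOpenImmersion j.left := inferInstanceAs (IsOpenImmersion (φ.left ⁻¹ᵁ U).ι)
    haveI : Mono j := (Over.forget _).mono_of_mono_map (inferInstanceAs (Mono j.left))
    haveI : IsAffine (resY U).left := hU
    haveI : IsAffine (resX φ U).left := hU.preimage φ.left
    haveI : LocallyOfFiniteType (resX φ U).hom :=
      inferInstanceAs (LocallyOfFiniteType ((φ.left ⁻¹ᵁ U).ι ≫ X.hom))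
    have hcU : GIT.IsClosedAction aU := by
      intro Ω _ _ T eT f
      have hcomm : GIT.psi aU f ≫ (j ▷ T) = GIT.psi a (f ≫ j) := by
        apply CartesianMonoidalCategory.hom_ext
        · simp [GIT.psi, j, haU]
        · simp [GIT.psi]
      have hoi : IsOpenImmersion (j ▷ T).left := MorphismProperty.of_isPullback
        ((isPullback_whiskerRight j T).map (Over.forget _)) ‹IsOpenImmersion j.left›
      have hr : Set.range (GIT.psi aU f).left.base =
          (j ▷ T).left.base ⁻¹' Set.range (GIT.psi a (f ≫ j)).left.base := by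
        ext v
        constructor
        · rintro ⟨w', rfl⟩
          exact ⟨w', by rw [← hcomm, Over.comp_left, Scheme.Hom.comp_base]; rfl⟩
        · rintro ⟨w', hw'⟩
          refine ⟨w', (j ▷ T).left.injective ?_⟩
          rw [← hw', ← hcomm, Over.comp_left, Scheme.Hom.comp_base]
          rfl
      rw [hr]
      exact (hc Ω T eT _).preimage (j ▷ T).left.continuous
    let ψU := GIT.psi aU (𝟙 (resX φ U))
    have hw' : ψU ≫ (j ⊗ₘ j) = (G ◁ j) ≫ ψ := by
      apply CartesianMonoidalCategory.hom_ext
      · simp [ψU, ψ, GIT.psi, j, haU]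
      · simp [ψU, ψ, GIT.psi]
    have hq : GIT.psi a j = ψU ≫ (j ▷ resX φ U) := by
      apply CartesianMonoidalCategory.hom_ext
      · simp [ψU, GIT.psi, j, haU]
      · simp [ψU, GIT.psi]
    haveI : IsOpenImmersion (j ▷ resX φ U).left := MorphismProperty.of_isPullback
      ((isPullback_whiskerRight j (resX φ U)).map (Over.forget _)) ‹IsOpenImmersion j.left›
    have sqj := (isPullback_psi a j).map (Over.forget _)
    haveI : LocallyQuasiFinite (GIT.psi a j).left := MorphismProperty.of_isPullback sqj ‹LocallyQuasiFinite ψ.left›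
    haveI : Mono (GIT.psi a j).left := MorphismProperty.of_isPullback
      (P := MorphismProperty.monomorphisms Scheme) sqj (MorphismProperty.monomorphisms.infer_property ψ.left)
    haveI : LocallyQuasiFinite ψU.left := by
      haveI : LocallyQuasiFinite (ψU.left ≫ (j ▷ resX φ U).left) := by rw [← Over.comp_left, ← hq]; infer_instance
      exact LocallyQuasiFinite.of_comp ψU.left (j ▷ resX φ U).left
    haveI : Mono ψU.left := by
      haveI : Mono (ψU.left ≫ (j ▷ resX φ U).left) := by rw [← Over.comp_left, ← hq]; infer_instance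
      exact mono_of_mono ψU.left (j ▷ resX φ U).left
    haveI : IsFinite ψU.left := isFinite_psi_affine hA e aU hcU
    haveI : IsClosedImmersion ψU.left :=
      (IsClosedImmersion.iff_isFinite_and_mono (f := ψU.left)).2 ⟨inferInstance, inferInstance⟩
    have hinj : Function.Injective (resMap φ U).left.appTop := fun s t hst => by
      obtain ⟨s', rfl⟩ := (bijective_ι_appLE U).2 s
      obtain ⟨t', rfl⟩ := (bijective_ι_appLE U).2 t
      refine congrArg _ ((h.sections U).1 ((bijective_ι_appLE (φ.left ⁻¹ᵁ U)).1 ?_))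
      rw [← ι_appLE_app, ← ι_appLE_app]
      exact hst
    have hrange : Set.range (resMap φ U).left.appTop =
        {f : Γ((resX φ U).left, ⊤) | aU.act.left.appTop f = (snd G (resX φ U)).left.appTop f} := by
      ext f
      constructor
      · rintro ⟨s, rfl⟩
        show aU.act.left.appTop ((resMap φ U).left.appTop s) = (snd G (resX φ U)).left.appTop _
        rw [← CommRingCat.comp_apply, ← CommRingCat.comp_apply, ← Scheme.Hom.comp_appTop,
          ← Scheme.Hom.comp_appTop, ← Over.comp_left, ← Over.comp_left, hiU]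
      · intro hf
        obtain ⟨g, rfl⟩ := (bijective_ι_appLE (φ.left ⁻¹ᵁ U)).2 f
        obtain ⟨s, hs⟩ := (Set.ext_iff.1 (h.sections U).2 g).2 (isInvSection_of_invariant a φ U aU haU hf)
        exact ⟨_, by rw [← hs]; exact ι_appLE_app φ U s⟩
    obtain ⟨hflat, -, hP⟩ := torsor_affine hA e aU (resMap φ U) hinj hrange
    exact ⟨aU, haU, hflat, hP⟩
  haveI hflat : Flat φ.left := IsZariskiLocalAtTarget.of_forall_exists_morphismRestrict fun y => by
    obtain ⟨U, hU, hyU, -⟩ := exists_isAffineOpen_mem_and_subset (X := Y.left) (x := y) (U := ⊤) trivial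
    obtain ⟨-, -, hf, -⟩ := hloc U hU
    exact ⟨U, hyU, hf⟩
  haveI : Surjective φ.left := ⟨h.surj⟩
  refine ⟨hflat, inferInstance, ?_⟩
  let Ψ := GIT.PsiY a φ h.inv
  haveI : IsIso Ψ := by
    refine (MorphismProperty.isomorphisms.iff _).1 (IsZariskiLocalAtTarget.of_forall_exists_morphismRestrict fun z => ?_)
    obtain ⟨U, hU, hyU, -⟩ := exists_isAffineOpen_mem_and_subset (X := Y.left)
      (x := φ.left (Limits.pullback.snd φ.left φ.left z)) (U := ⊤) trivial
    change Y.left.Opens at U
    obtain ⟨aU, haU, -, hP⟩ := hloc U hU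
    let j : (resX φ U).left ⟶ X.left := (φ.left ⁻¹ᵁ U).ι
    let f := φ.left ∣_ U
    have hjf : j ≫ φ.left = f ≫ U.ι := (morphismRestrict_ι φ.left U).symm
    let m : Limits.pullback f f ⟶ Limits.pullback φ.left φ.left :=
      Limits.pullback.lift (Limits.pullback.fst f f ≫ j) (Limits.pullback.snd f f ≫ j) (by
        rw [Category.assoc, Category.assoc, hjf, Limits.pullback.condition_assoc])
    have sq1 : IsPullback m (Limits.pullback.snd f f) (Limits.pullback.snd φ.left φ.left) j := by
      refine IsPullback.of_right (h₁₂ := Limits.pullback.fst φ.left φ.left) (v₁₃ := φ.left) (h₂₂ := φ.left) ?_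
        (Limits.pullback.lift_snd _ _ _) (IsPullback.of_hasPullback φ.left φ.left)
      have h5 : m ≫ Limits.pullback.fst φ.left φ.left = Limits.pullback.fst f f ≫ j := Limits.pullback.lift_fst _ _ _
      rw [h5, hjf]
      exact (IsPullback.of_hasPullback f f).paste_horiz (isPullback_morphismRestrict φ.left U).flip
    have sq2 : IsPullback (G ◁ resPr φ U).left hP.isoPullback.hom Ψ m := by
      refine IsPullback.of_bot ?_ ?_ sq1
      · rw [hP.isoPullback_hom_snd]
        have h6 : Ψ ≫ Limits.pullback.snd φ.left φ.left = (snd G X).left := Limits.pullback.lift_snd _ _ _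
        rw [h6]
        exact (isPullback_whiskerLeft (G := G) (resPr φ U)).map (Over.forget _)
      · apply Limits.pullback.hom_ext
        · simp only [Category.assoc, m, Ψ, GIT.PsiY, Limits.pullback.lift_fst]
          rw [hP.isoPullback_hom_fst_assoc]
          exact congrArg CommaMorphism.left haU.symm
        · simp only [Category.assoc, m, Ψ, GIT.PsiY, Limits.pullback.lift_snd]
          rw [hP.isoPullback_hom_snd_assoc]
          exact congrArg CommaMorphism.left (whiskerLeft_snd G (resPr φ U))
    haveI : IsOpenImmersion m := MorphismProperty.of_isPullback sq1.flip (inferInstanceAs (IsOpenImmersion j))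
    refine ⟨m.opensRange, ?_, ?_⟩
    · obtain ⟨z', hz', -⟩ := exists_point_of_isPullback sq1 z
        ⟨Limits.pullback.snd φ.left φ.left z, hyU⟩ rfl
      exact ⟨z', hz'⟩
    · rw [(MorphismProperty.arrow_mk_iso_iff (P := MorphismProperty.isomorphisms Scheme) (morphismRestrictOpensRange Ψ m))]
      show MorphismProperty.isomorphisms Scheme (Limits.pullback.snd Ψ m)
      rw [← (MorphismProperty.isomorphisms Scheme).cancel_left_of_respectsIso sq2.isoPullback.hom,
        sq2.isoPullback_hom_snd]
      exact inferInstanceAs (IsIso hP.isoPullback.hom)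
  refine IsPullback.of_map (Over.forget _) (by exact h.inv) ?_
  exact IsPullback.of_iso_pullback ⟨h.inv.left⟩ (asIso Ψ) (Limits.pullback.lift_fst _ _ _) (Limits.pullback.lift_snd _ _ _)

end Groth.Agent.PropAct

namespace Groth.Agent.PropAct

open Groth.Agent.RedQuot

/-- Coordinates of a reductive group over an algebraically closed field of characteristic zero. -/
theorem linRed_of_isReductiveOver {k : Type u} [Field k] [IsAlgClosed k] [CharZero k]
    {G : Over (Spec (CommRingCat.of k))} [GrpObj G] (hG : Red.IsReductiveOver k G)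
    {A : Type u} [CommRing A] [HopfAlgebra k A] (e : CoactBr.sp k A ≅ G) [IsMonHom e.hom] :
    (Algebra.FiniteType k A ∧ HopfRep.IsLinearlyReductive k A) ∧
      IsDomain (TensorProduct k (AlgebraicClosure k) A) := by
  haveI : IsMonHom e.symm.hom := inferInstanceAs (IsMonHom e.inv)
  have h := LieRed.isReductiveOver_of_iso e.symm hG
  obtain ⟨-, hsm, hconn, -⟩ := id h
  haveI : Algebra.Smooth k A := RingHom.smooth_algebraMap.1
    ((HasRingHomProperty.Spec_iff (P := @Smooth)).1 hsm)
  haveI : ConnectedSpace (PrimeSpectrum A) := hconn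
  haveI : Algebra.FiniteType k A := inferInstance
  haveI : IsDomain A := SmoothWeil.isDomain_of_smooth_connected k A
  refine ⟨⟨inferInstance, LieRed.isLinearlyReductive_of_isReductiveOver h⟩, ?_⟩
  let c : k ≃ₐ[k] AlgebraicClosure k :=
    AlgEquiv.ofBijective (Algebra.ofId k _) IsAlgClosed.algebraMap_bijective_of_isIntegral
  exact ((Algebra.TensorProduct.congr c.symm (AlgEquiv.refl : A ≃ₐ[k] A)).trans
    (Algebra.TensorProduct.lid k A)).toRingEquiv.toMulEquiv.isDomain

end Groth.Agent.PropAct
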