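import Groth.Agent.PropActLib.Affine
import Groth.Agent.RedQuotLib.Global
import Groth.Agent.GitQuot.Basic
import Groth.Agent.S11428

/-!
# An action with an affine geometric quotient map and finite stabilisers is proper
-/

set_option autoImplicit false
set_option backward.isDefEq.respectTransparency false
set_option backward.isDefEq.respectTransparency.types false

noncomputable section

universe u

open CategoryTheory MonoidalCategory CartesianMonoidalCategory MonObj AlgebraicGeometry

namespace Groth.Agent.PropAct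

attribute [-instance] CategoryTheory.Hom.commGroup

open Groth.Agent.RedQuot

/-- Finitely many geometric points lie over a given one under a quasi-finite map. -/
theorem finite_sections {P X : Scheme.{u}} (f : P ⟶ X) [LocallyQuasiFinite f] [QuasiCompact f]
    [LocallyOfFiniteType f] {Ω : Type u} [Field Ω] [IsAlgClosed Ω] (t : Spec (CommRingCat.of Ω) ⟶ X) :
    Finite {p : Spec (CommRingCat.of Ω) ⟶ P // p ≫ f = t} := by
  let π := Limits.pullback.snd f t
  haveI : LocallyQuasiFinite π := MorphismProperty.pullback_snd _ _ inferInstance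
  haveI : QuasiCompact π := MorphismProperty.pullback_snd _ _ inferInstance
  haveI : LocallyOfFiniteType π := MorphismProperty.pullback_snd _ _ inferInstance
  haveI : CompactSpace ↥(Limits.pullback f t) := (quasiCompact_iff_compactSpace π).1 inferInstance
  haveI : IsFinite π := IsFinite.of_locallyQuasiFinite π
  haveI := (isFinite_iff_finite_points π).1 inferInstance
  refine Finite.of_injective
    (fun p => (⟨Limits.pullback.lift p.1 (𝟙 _) (by rw [p.2, Category.id_comp]), Limits.pullback.lift_snd _ _ _⟩ :
      {q : Spec (CommRingCat.of Ω) ⟶ Limits.pullback f t // q ≫ π = 𝟙 _})) fun p q h => ?_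
  have := congrArg (fun r => r.1 ≫ Limits.pullback.fst f t) h
  simp only [Limits.pullback.lift_fst] at this
  exact Subtype.ext this

variable {k : Type u} [Field k] {G X Y : Over (Spec (CommRingCat.of k))} [GrpObj G]

/-- The graph of an action with quasi-finite stabilisers is quasi-finite. -/
theorem lqf_psi [LocallyOfFiniteType G.hom] [QuasiCompact G.hom] [LocallyOfFiniteType X.hom] [QuasiCompact X.hom]
    [IsSeparated X.hom] (a : AlgGrp.Action G X)
    [LocallyQuasiFinite (Limits.pullback.snd (GIT.psi a (𝟙 X)).left (lift (𝟙 X) (𝟙 X)).left)] :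
    LocallyQuasiFinite (GIT.psi a (𝟙 X)).left := by
  let ψ := GIT.psi a (𝟙 X)
  let d := lift (𝟙 X) (𝟙 X)
  haveI : LocallyOfFiniteType (G ⊗ X).hom :=
    inferInstanceAs (LocallyOfFiniteType (Limits.pullback.fst G.hom X.hom ≫ G.hom))
  haveI : QuasiCompact (G ⊗ X).hom := inferInstanceAs (QuasiCompact (Limits.pullback.fst G.hom X.hom ≫ G.hom))
  haveI : IsSeparated (X ⊗ X).hom := inferInstanceAs (IsSeparated (Limits.pullback.fst X.hom X.hom ≫ X.hom))
  haveI : LocallyOfFiniteType ψ.left := by
    haveI : LocallyOfFiniteType (ψ.left ≫ (X ⊗ X).hom) := by rw [Over.w ψ]; infer_instance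
    exact locallyOfFiniteType_of_comp _ (X ⊗ X).hom
  haveI : QuasiCompact ψ.left := by
    haveI : QuasiCompact (ψ.left ≫ (X ⊗ X).hom) := by rw [Over.w ψ]; infer_instance
    exact QuasiCompact.of_comp _ (X ⊗ X).hom
  let St := Limits.pullback.snd ψ.left d.left
  haveI : QuasiCompact St := MorphismProperty.pullback_snd _ _ inferInstance
  haveI : LocallyOfFiniteType St := MorphismProperty.pullback_snd _ _ inferInstance
  haveI : LocallyQuasiFinite St := inferInstanceAs (LocallyQuasiFinite (Limits.pullback.snd _ _))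
  refine LocallyQuasiFinite.of_finite_preimage_singleton _ fun z => ?_
  let Ω := AlgebraicClosure ((X ⊗ X).left.residueField z)
  let t : Spec (CommRingCat.of Ω) ⟶ (X ⊗ X).left :=
    Spec.map (CommRingCat.ofHom (algebraMap ((X ⊗ X).left.residueField z) Ω)) ≫ (X ⊗ X).left.fromSpecResidueField z
  let T : Over (Spec (CommRingCat.of k)) := Over.mk (t ≫ (X ⊗ X).hom)
  let tT : T ⟶ X ⊗ X := Over.homMk t rfl
  let t₁ := tT ≫ fst X X
  let t₂ := tT ≫ snd X X
  haveI : Finite {p : Spec (CommRingCat.of Ω) ⟶ (G ⊗ X).left // p ≫ ψ.left = t} := by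
    by_cases hne : Nonempty {p : Spec (CommRingCat.of Ω) ⟶ (G ⊗ X).left // p ≫ ψ.left = t}
    · obtain ⟨p₀⟩ := hne
      let toT : {p : Spec (CommRingCat.of Ω) ⟶ (G ⊗ X).left // p ≫ ψ.left = t} → (T ⟶ G ⊗ X) := fun p =>
        Over.homMk p.1 (by
          show p.1 ≫ (G ⊗ X).hom = t ≫ (X ⊗ X).hom
          exact (congrArg (p.1 ≫ ·) (Over.w ψ).symm).trans ((Category.assoc _ _ _).symm.trans (congrArg (· ≫ (X ⊗ X).hom) p.2)))
      have hψ : ∀ p, toT p ≫ ψ = tT := fun p => Over.OverMorphism.ext p.2
      have hsnd : ∀ p, toT p ≫ snd G X = t₂ := fun p => by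
        rw [← show ψ ≫ snd X X = snd G X by simp [ψ, GIT.psi], reassoc_of% (hψ p)]
      let gg := fun p => toT p ≫ fst G X
      have hu : ∀ p, toT p = lift (gg p) t₂ := fun p => by
        apply CartesianMonoidalCategory.hom_ext
        · simp [gg]
        · rw [lift_snd, hsnd]
      have hact : ∀ p, lift (gg p) t₂ ≫ a.act = t₁ := fun p => by
        rw [← hu p, ← show ψ ≫ fst X X = a.act by simp [ψ, GIT.psi], reassoc_of% (hψ p)]
      have hst : ∀ p, lift ((gg p₀)⁻¹ * gg p) t₂ ≫ ψ = t₂ ≫ d := fun p => by
        apply CartesianMonoidalCategory.hom_ext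
        · have e : lift ((gg p₀)⁻¹ * gg p) t₂ ≫ a.act = t₂ := by
            rw [← act_mul, hact, ← hact p₀, act_mul, inv_mul_cancel, act_one]
          simp only [ψ, d, GIT.psi, Category.assoc, lift_fst, MonoidalCategory.whiskerLeft_id, Category.id_comp]
          rw [e, Category.comp_id]
        · simp [ψ, d, GIT.psi]
      haveI := finite_sections St t₂.left
      refine Finite.of_injective (fun p => (⟨Limits.pullback.lift (lift ((gg p₀)⁻¹ * gg p) t₂).left t₂.left
          (by rw [← Over.comp_left, ← Over.comp_left, hst]), Limits.pullback.lift_snd _ _ _⟩ :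
        {q : Spec (CommRingCat.of Ω) ⟶ Limits.pullback ψ.left d.left // q ≫ St = t₂.left})) fun p q h => ?_
      have h1 : lift ((gg p₀)⁻¹ * gg p) t₂ = lift ((gg p₀)⁻¹ * gg q) t₂ := Over.OverMorphism.ext (by
        have := congrArg (fun r => r.1 ≫ Limits.pullback.fst ψ.left d.left) h
        simp only [Limits.pullback.lift_fst] at this
        exact this)
      have h2 := congrArg (· ≫ fst G X) h1
      simp only [lift_fst] at h2
      have h3 : toT p = toT q := by rw [hu p, hu q, mul_left_cancel h2]
      exact Subtype.ext (congrArg CommaMorphism.left h3)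
    · haveI := not_nonempty_iff.1 hne
      infer_instance
  let π := Limits.pullback.snd ψ.left t
  haveI : QuasiCompact π := MorphismProperty.pullback_snd _ _ inferInstance
  haveI : LocallyOfFiniteType π := MorphismProperty.pullback_snd _ _ inferInstance
  haveI : CompactSpace ↥(Limits.pullback ψ.left t) := (quasiCompact_iff_compactSpace π).1 inferInstance
  haveI : IsFinite π := by
    rw [isFinite_iff_finite_points]
    refine Finite.of_injective (fun q => (⟨q.1 ≫ Limits.pullback.fst ψ.left t, by
      rw [Category.assoc, Limits.pullback.condition, reassoc_of% q.2]⟩ :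
        {p : Spec (CommRingCat.of Ω) ⟶ (G ⊗ X).left // p ≫ ψ.left = t})) fun q r h => ?_
    have := congrArg Subtype.val h
    exact Subtype.ext (Limits.pullback.hom_ext this (q.2.trans r.2.symm))
  haveI : Finite ↥(Limits.pullback ψ.left t) := by
    have hu : (Set.univ : Set ↥(Limits.pullback ψ.left t)).Finite := by
      simpa using π.finite_preimage (s := Set.univ) (Set.toFinite _)
    exact Set.finite_univ_iff.1 hu
  refine (Set.finite_range (Limits.pullback.fst ψ.left t)).subset fun w hw => ?_
  have hz : t (IsLocalRing.closedPoint Ω) = z := by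
    show (X ⊗ X).left.fromSpecResidueField z _ = z
    exact Scheme.fromSpecResidueField_apply _ _
  obtain ⟨v, hv, -⟩ := Scheme.Pullback.exists_preimage_pullback (f := ψ.left) (g := t) w (IsLocalRing.closedPoint Ω)
    ((Set.mem_singleton_iff.1 hw).trans hz.symm)
  exact ⟨v, hv⟩

/-- Properness of the action for an affine geometric quotient map with separated quotient. -/
theorem isProper_psi [IsAffine G.left] [LocallyOfFiniteType G.hom] [QuasiCompact G.hom] [LocallyOfFiniteType X.hom]
    [QuasiCompact X.hom] [IsSeparated X.hom] [IsSeparated Y.hom]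
    {A : Type u} [CommRing A] [HopfAlgebra k A] [Algebra.FiniteType k A] (hA : HopfRep.IsLinearlyReductive k A)
    [IsDomain (TensorProduct k (AlgebraicClosure k) A)] (e : CoactBr.sp k A ≅ G) [IsMonHom e.hom]
    (a : AlgGrp.Action G X)
    [LocallyQuasiFinite (Limits.pullback.snd (GIT.psi a (𝟙 X)).left (lift (𝟙 X) (𝟙 X)).left)]
    (φ : X ⟶ Y) (h : GIT.IsGeomQuot a φ) [IsAffineHom φ.left] :
    IsProper (GIT.psi a (𝟙 X)).left := by
  let ψ := GIT.psi a (𝟙 X)
  haveI := lqf_psi a
  have hc := GitQuot.isClosedAction_of_isGeomQuot a φ h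
  have hclosed : IsClosed (Set.range ψ.left.base) :=
    (Groth.Agent.S11428.result _ G X Y a φ h).1 inferInstance
  refine IsZariskiLocalAtTarget.of_forall_exists_morphismRestrict fun z => ?_
  by_cases hz : z ∈ Set.range ψ.left.base
  · obtain ⟨w, hw⟩ := hz
    obtain ⟨U, hU, hyU, -⟩ := exists_isAffineOpen_mem_and_subset (X := Y.left) (x := φ.left ((snd G X).left w))
      (U := ⊤) trivial
    change Y.left.Opens at U
    let j := resPr φ U
    obtain ⟨aU, haU, -⟩ := GitQuot.exists_action a h.inv (isPullback_res φ U)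
    haveI : IsOpenImmersion j.left := inferInstanceAs (IsOpenImmersion (φ.left ⁻¹ᵁ U).ι)
    haveI : Mono j := (Over.forget _).mono_of_mono_map (inferInstanceAs (Mono j.left))
    haveI : IsAffine (resX φ U).left := hU.preimage φ.left
    haveI : LocallyOfFiniteType (resX φ U).hom :=
      inferInstanceAs (LocallyOfFiniteType ((φ.left ⁻¹ᵁ U).ι ≫ X.hom))
    have hcU : GIT.IsClosedAction aU := by
      intro Ω _ _ T eT f
      have hcomm : GIT.psi aU f ≫ (j ▷ T) = GIT.psi a (f ≫ j) := by
        apply CartesianMonoidalCategory.hom_ext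
        · simp [GIT.psi, j, haU]
        · simp [GIT.psi]
      have hoi : IsOpenImmersion (j ▷ T).left := MorphismProperty.of_isPullback
        ((isPullback_whiskerRight j T).map (Over.forget _)) ‹IsOpenImmersion j.left›
      have hr : Set.range (GIT.psi aU f).left.base =
          (j ▷ T).left.base ⁻¹' Set.range (GIT.psi a (f ≫ j)).left.base := by
        ext v
        constructor
        · rintro ⟨w', rfl⟩
          exact ⟨w', by rw [← hcomm, Over.comp_left, Scheme.Hom.comp_base]; rfl⟩
        · rintro ⟨w', hw'⟩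
          refine ⟨w', (j ▷ T).left.injective ?_⟩
          rw [← hw', ← hcomm, Over.comp_left, Scheme.Hom.comp_base]
          rfl
      rw [hr]
      exact (hc Ω T eT _).preimage (j ▷ T).left.continuous
    let ψU := GIT.psi aU (𝟙 (resX φ U))
    have hw' : ψU ≫ (j ⊗ₘ j) = (G ◁ j) ≫ ψ := by
      apply CartesianMonoidalCategory.hom_ext
      · simp [ψU, ψ, GIT.psi, j, haU]
      · simp [ψU, ψ, GIT.psi]
    haveI : Mono (j ⊗ₘ j) := ⟨fun u v huv => by
      apply CartesianMonoidalCategory.hom_ext
      · rw [← cancel_mono j]; simpa using congrArg (· ≫ fst X X) huv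
      · rw [← cancel_mono j]; simpa using congrArg (· ≫ snd X X) huv⟩
    haveI : Mono (G ◁ j) := ⟨fun u v huv => by
      apply CartesianMonoidalCategory.hom_ext
      · simpa using congrArg (· ≫ fst G X) huv
      · rw [← cancel_mono j]; simpa using congrArg (· ≫ snd G X) huv⟩
    have hsq : IsPullback (G ◁ j) ψU ψ (j ⊗ₘ j) := by
      refine ⟨⟨hw'.symm⟩, ⟨Limits.PullbackCone.IsLimit.mk _
        (fun s => lift (s.fst ≫ fst G X) (s.snd ≫ snd _ _)) (fun s => ?_) (fun s => ?_) (fun s m h₁ _ => ?_)⟩⟩
      · have hs := congrArg (· ≫ snd X X) s.condition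
        simp only [ψ, GIT.psi, Category.assoc, lift_snd, tensorHom_snd] at hs
        apply CartesianMonoidalCategory.hom_ext
        · simp
        · simp [hs]
      · have hs := congrArg (· ≫ snd X X) s.condition
        simp only [ψ, GIT.psi, Category.assoc, lift_snd, tensorHom_snd] at hs
        rw [← cancel_mono (j ⊗ₘ j), Category.assoc, hw', ← s.condition, ← Category.assoc]
        congr 1
        apply CartesianMonoidalCategory.hom_ext
        · simp
        · simp [hs]
      · rw [← cancel_mono (G ◁ j), h₁]
        have hs := congrArg (· ≫ snd X X) s.condition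
        simp only [ψ, GIT.psi, Category.assoc, lift_snd, tensorHom_snd] at hs
        apply CartesianMonoidalCategory.hom_ext
        · simp
        · simp [hs]
    have hsqL := hsq.map (Over.forget _)
    haveI hoi : IsOpenImmersion (j ⊗ₘ j).left :=
      inferInstanceAs (IsOpenImmersion (Limits.pullback.map (resX φ U).hom (resX φ U).hom X.hom X.hom j.left j.left
        (𝟙 _) (by simp [Over.w j]) (by simp [Over.w j])))
    haveI : LocallyQuasiFinite ψU.left := MorphismProperty.of_isPullback hsqL ‹LocallyQuasiFinite ψ.left›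
    haveI : IsFinite ψU.left := isFinite_psi_affine hA e aU hcU
    refine ⟨(j ⊗ₘ j).left.opensRange, ?_, ?_⟩
    · let T : Over (Spec (CommRingCat.of k)) := Over.mk ((X ⊗ X).left.fromSpecResidueField z ≫ (X ⊗ X).hom)
      let tT : T ⟶ X ⊗ X := Over.homMk ((X ⊗ X).left.fromSpecResidueField z) rfl
      have hmem : ∀ p : X ⊗ X ⟶ X, φ.left (p.left z) = φ.left ((snd G X).left w) →
          Set.range (tT ≫ p).left ⊆ Set.range j.left := by
        rintro p hp _ ⟨s, rfl⟩
        rw [show Set.range j.left = ((φ.left ⁻¹ᵁ U : X.left.Opens) : Set X.left) from (φ.left ⁻¹ᵁ U).range_ι]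
        show φ.left ((tT ≫ p).left s) ∈ U
        rw [Over.comp_left, Scheme.Hom.comp_apply]
        rw [show tT.left s = z from Scheme.fromSpecResidueField_apply _ _, hp]
        exact hyU
      have h2 := hmem (snd X X) (by
        rw [← hw, ← Scheme.Hom.comp_apply ψ.left, ← Over.comp_left]
        congr 3
        simp [ψ, GIT.psi])
      have h1 := hmem (fst X X) (by
        rw [← hw, ← Scheme.Hom.comp_apply ψ.left, ← Over.comp_left,
          show ψ ≫ fst X X = a.act by simp [ψ, GIT.psi], ← Scheme.Hom.comp_apply, h.inv.left]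
        rfl)
      let l₁ : T ⟶ resX φ U := Over.homMk (IsOpenImmersion.lift j.left _ h1) (by
        rw [← Over.w j, IsOpenImmersion.lift_fac_assoc, Over.w])
      let l₂ : T ⟶ resX φ U := Over.homMk (IsOpenImmersion.lift j.left _ h2) (by
        rw [← Over.w j, IsOpenImmersion.lift_fac_assoc, Over.w])
      have hl : lift l₁ l₂ ≫ (j ⊗ₘ j) = tT := by
        apply CartesianMonoidalCategory.hom_ext
        · simp only [Category.assoc, tensorHom_fst, lift_fst_assoc]
          exact Over.OverMorphism.ext (IsOpenImmersion.lift_fac _ _ _)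
        · simp only [Category.assoc, tensorHom_snd, lift_snd_assoc]
          exact Over.OverMorphism.ext (IsOpenImmersion.lift_fac _ _ _)
      refine ⟨(lift l₁ l₂).left (IsLocalRing.closedPoint _), ?_⟩
      show (j ⊗ₘ j).left _ = z
      rw [← Scheme.Hom.comp_apply, ← Over.comp_left, hl]
      exact Scheme.fromSpecResidueField_apply _ _
    · rw [(MorphismProperty.arrow_mk_iso_iff (P := @IsProper) (morphismRestrictOpensRange ψ.left (j ⊗ₘ j).left))]
      show IsProper (Limits.pullback.snd ψ.left (j ⊗ₘ j).left)
      rw [← MorphismProperty.cancel_left_of_respectsIso @IsProper hsqL.isoPullback.hom]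
      rw [show hsqL.isoPullback.hom ≫ Limits.pullback.snd ψ.left (j ⊗ₘ j).left = ψU.left from
        hsqL.isoPullback_hom_snd]
      infer_instance
  · let W : (X ⊗ X).left.Opens := ⟨(Set.range ψ.left.base)ᶜ, hclosed.isOpen_compl⟩
    refine ⟨W, hz, ?_⟩
    haveI : IsEmpty ↥(ψ.left ⁻¹ᵁ W).toScheme := ⟨fun p => p.2 ⟨p.1, rfl⟩⟩
    infer_instance

end Groth.Agent.PropAct
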