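import Groth.Agent.PropActLib.Alg
import Groth.Agent.RedQuotLib.StabFinite
import Groth.Agent.SmoothWeil.Dom
import Groth.Agent.TorusField.Bridge
import Groth.Prelude.Def_Red

/-!
# A closed action on an affine scheme with finite stabilisers is proper
-/

set_option autoImplicit false
set_option backward.isDefEq.respectTransparency false
set_option backward.isDefEq.respectTransparency.types false

noncomputable section

universe u

open CategoryTheory MonoidalCategory CartesianMonoidalCategory MonObj AlgebraicGeometry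
open scoped TensorProduct

namespace Groth.Agent.PropAct

attribute [-instance] CategoryTheory.Hom.commGroup

open Groth.Agent.RedQuot

variable {k : Type u} [Field k]

local instance braidedAlgSpecOf (k : Type u) [CommRing k] : (algSpec (CommRingCat.of k)).Braided :=
  braidedAlgSpec

/-- The coordinate ring of a reductive group is geometrically a domain. -/
theorem isDomain_tensor {A : Type u} [CommRing A] [HopfAlgebra k A] {G : Over (Spec (CommRingCat.of k))} [GrpObj G]
    (hG : Red.IsReductive G) (e : CoactBr.sp k A ≅ G) [IsMonHom e.hom] :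
    IsDomain (AlgebraicClosure k ⊗[k] A) := by
  have h : Red.IsReductive (CoactBr.sp k A) := isReductive_of_iso
    ((Grp.fullyFaithfulForget₂Mon _).preimageIso (Mon.mkIso' e)).symm hG
  obtain ⟨-, -, hfib⟩ := h
  haveI : Nonempty ↥(Spec (CommRingCat.of k)) := inferInstanceAs (Nonempty (PrimeSpectrum k))
  let s : ↥(Spec (CommRingCat.of k)) := Classical.arbitrary _
  let K : Type u := AlgebraicClosure ((Spec (CommRingCat.of k)).residueField s)
  letI : Algebra k K := (Spec.preimage (Red.geomPt s)).hom.toAlgebra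
  have hs : Spec.map (CommRingCat.ofHom (algebraMap k K)) = Red.geomPt s := Spec.map_preimage _
  have h1 : Red.IsReductiveOver K
      (Red.bc (Spec.map (CommRingCat.ofHom (algebraMap k K))) (CoactBr.sp k A)) := by
    rw [hs]
    exact hfib s
  let g := TorusField.bcSpecIso k K A
  let e' : Red.bc (Spec.map (CommRingCat.ofHom (algebraMap k K))) (CoactBr.sp k A) ≅
      CoactBr.sp K (K ⊗[k] A) := (Grp.forget _).mapIso g
  haveI : IsMonHom e'.hom := inferInstanceAs (IsMonHom g.hom.hom.hom)
  obtain ⟨-, hsm, hconn, -⟩ := LieRed.isReductiveOver_of_iso e' h1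
  haveI : ConnectedSpace (PrimeSpectrum (K ⊗[k] A)) := hconn
  haveI : Algebra.Smooth K (K ⊗[k] A) := RingHom.smooth_algebraMap.1
    ((HasRingHomProperty.Spec_iff (P := @Smooth)).1 hsm)
  haveI : IsDomain (K ⊗[k] A) := SmoothWeil.isDomain_of_smooth_connected K _
  let σ : AlgebraicClosure k →ₐ[k] K := IsAlgClosed.lift
  exact (Module.Flat.rTensor_preserves_injective_linearMap (M := A) σ.toLinearMap σ.toRingHom.injective :
    Function.Injective (Algebra.TensorProduct.map σ (AlgHom.id k A))).isDomain
      (Algebra.TensorProduct.map σ (AlgHom.id k A)).toRingHom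

attribute [local instance] coordAlg

variable {A : Type u} [CommRing A] [HopfAlgebra k A] [Algebra.FiniteType k A]
variable {G X : Over (Spec (CommRingCat.of k))} [GrpObj G]

/-- Transport of a property of morphisms along isomorphisms on both sides. -/
theorem prop_iff_of_square {P : MorphismProperty Scheme.{u}} [P.RespectsIso]
    {U U' V V' : Over (Spec (CommRingCat.of k))} (f : U ⟶ V) (g : U' ⟶ V') (i : U ⟶ U') (j : V ⟶ V') [IsIso i] [IsIso j]
    (w : f ≫ j = i ≫ g) : P f.left ↔ P g.left := by
  haveI : IsIso i.left := inferInstanceAs (IsIso ((Over.forget _).map i))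
  haveI : IsIso j.left := inferInstanceAs (IsIso ((Over.forget _).map j))
  rw [← P.cancel_right_of_respectsIso f.left j.left, ← P.cancel_left_of_respectsIso i.left g.left,
    ← Over.comp_left, w, Over.comp_left]

/-- The graph of an action in coordinates. -/
theorem theta_conj (e : CoactBr.sp k A ≅ G) [IsMonHom e.hom] [IsAffine X.left] (a : AlgGrp.Action G X)
    [HopfRep.Comod k A Γ(X.left, ⊤)] [GLin.IsCoactAlg k A Γ(X.left, ⊤)] (hco : IsCoord e a) :
    CoactBr.pt (θ k A Γ(X.left, ⊤)) ≫
        (univPair (k := k) Γ(X.left, ⊤) Γ(X.left, ⊤) ≫ ((eX X).hom ⊗ₘ (eX X).hom)) =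
      (univXG (X := X) e ≫ shear.hom) ≫ GIT.psi a (𝟙 X) ≫ (β_ X X).hom := by
  rw [Category.assoc]
  apply CartesianMonoidalCategory.hom_ext
  · simp only [Category.assoc, tensorHom_fst, GIT.psi, braiding_hom_fst, lift_snd,
      shear_snd, univPair, lift_fst_assoc, univXG_fst]
    rw [← Category.assoc, ← CoactBr.pt_comp]
    congr 2
    exact AlgHom.ext fun r => by simp [θ, GLin.IsCoactAlg.coact_one]
  · simp only [Category.assoc, tensorHom_snd, GIT.psi, braiding_hom_snd, lift_fst,
      MonoidalCategory.whiskerLeft_id, Category.id_comp, univPair, lift_snd_assoc]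
    rw [show shear.hom ≫ a.act = rX a from rfl, univXG_rX hco, ← Category.assoc, ← CoactBr.pt_comp]
    congr 2
    exact AlgHom.ext fun r => by simp [θ, GLin.coactAlgHom_apply]

/-- Properties of the graph in coordinates are properties of the graph. -/
theorem theta_prop_iff (e : CoactBr.sp k A ≅ G) [IsMonHom e.hom] [IsAffine X.left] (a : AlgGrp.Action G X)
    [HopfRep.Comod k A Γ(X.left, ⊤)] [GLin.IsCoactAlg k A Γ(X.left, ⊤)] (hco : IsCoord e a)
    (P : MorphismProperty Scheme.{u}) [P.RespectsIso] :
    P (CoactBr.pt (θ k A Γ(X.left, ⊤))).left ↔ P (GIT.psi a (𝟙 X)).left :=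
  (prop_iff_of_square _ (GIT.psi a (𝟙 X) ≫ (β_ X X).hom) (univXG (X := X) e ≫ shear.hom)
      (univPair (k := k) Γ(X.left, ⊤) Γ(X.left, ⊤) ≫ ((eX X).hom ⊗ₘ (eX X).hom)) (theta_conj e a hco)).trans
    (prop_iff_of_square (GIT.psi a (𝟙 X) ≫ (β_ X X).hom) (GIT.psi a (𝟙 X)) (𝟙 _) (β_ X X).inv (by simp))

/-- A closed action with quasi-finite graph on an affine scheme has finite graph. -/
theorem isFinite_psi_affine (hA : HopfRep.IsLinearlyReductive k A) [IsDomain (AlgebraicClosure k ⊗[k] A)]
    (e : CoactBr.sp k A ≅ G) [IsMonHom e.hom] [IsAffine X.left] [LocallyOfFiniteType X.hom]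
    (a : AlgGrp.Action G X) (hc : GIT.IsClosedAction a) [LocallyQuasiFinite (GIT.psi a (𝟙 X)).left] :
    IsFinite (GIT.psi a (𝟙 X)).left := by
  obtain ⟨c, hca, hco⟩ := exists_coaction e a
  let R : Type u := Γ(X.left, ⊤)
  haveI : Algebra.FiniteType k R := by
    have h := (HasRingHomProperty.iff_of_isAffine (P := @LocallyOfFiniteType) (f := X.hom)).1 inferInstance
    exact h.comp (RingHom.FiniteType.of_surjective _
      (ConcreteCategory.bijective_of_isIso (Scheme.ΓSpecIso (CommRingCat.of k)).inv).2)
  let θ' : CoactBr.sp k (R ⊗[k] A) ⟶ CoactBr.sp k (R ⊗[k] R) := CoactBr.pt (θ k A R)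
  let u₂ : CoactBr.sp k (R ⊗[k] R) ⟶ X ⊗ X := univPair (k := k) R R ≫ ((eX X).hom ⊗ₘ (eX X).hom)
  have key : θ' ≫ u₂ = (univXG (X := X) e ≫ shear.hom) ≫ GIT.psi a (𝟙 X) ≫ (β_ X X).hom := theta_conj e a hco
  haveI : IsIso u₂ := inferInstance
  have hiff : ∀ (P : MorphismProperty Scheme.{u}) [P.RespectsIso], P θ'.left ↔ P (GIT.psi a (𝟙 X)).left :=
    fun P _ => theta_prop_iff e a hco P
  rw [← hiff @IsFinite, CoactBr.pt_left, IsFinite.SpecMap_iff]
  refine finite_θ hA (AlgebraicClosure k) (fun f => ?_) ?_
  · let K := AlgebraicClosure k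
    let x : CoactBr.sp k K ⟶ X := CoactBr.pt f ≫ (eX X).hom
    let π : R ⊗[k] A →ₐ[k] K ⊗[k] A := Algebra.TensorProduct.map f (AlgHom.id k A)
    let uT : CoactBr.sp k (K ⊗[k] A) ⟶ CoactBr.sp k K ⊗ G := univPair (k := k) K A ≫ (𝟙 _ ⊗ₘ e.hom)
    have hπ : CoactBr.pt π ≫ univXG (X := X) e = uT ≫ (x ▷ G) := by
      apply CartesianMonoidalCategory.hom_ext
      · simp only [uT, x, π, univXG, univPair, Category.assoc, lift_fst, whiskerRight_fst, tensorHom_fst_assoc,
          lift_fst_assoc, Category.id_comp]
        rw [← Category.assoc, ← Category.assoc, ← CoactBr.pt_comp, ← CoactBr.pt_comp]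
        congr 2
      · simp only [uT, x, π, univXG, univPair, Category.assoc, lift_snd, whiskerRight_snd, tensorHom_snd,
          lift_snd_assoc]
        rw [← Category.assoc, ← CoactBr.pt_comp]
        congr 2
        exact AlgHom.ext fun r => by simp
    have hx : (x ▷ G) ≫ shear.hom = shear.hom ≫ (G ◁ x) := by
      apply CartesianMonoidalCategory.hom_ext <;> simp [shear]
    have hG : (G ◁ x) ≫ GIT.psi a (𝟙 X) = GIT.psi a x ≫ (X ◁ x) := by
      apply CartesianMonoidalCategory.hom_ext <;> simp [GIT.psi]
    let i := uT ≫ shear.hom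
    have hall : CoactBr.pt (π.comp (θ k A R)) ≫ u₂ = i ≫ GIT.psi a x ≫ (X ◁ x) ≫ (β_ X X).hom := by
      rw [CoactBr.pt_comp, Category.assoc, key, Category.assoc, reassoc_of% hπ, reassoc_of% hx, reassoc_of% hG]
      simp [i]
    haveI : IsIntegralHom x.left := by
      haveI : IsIntegralHom (CoactBr.pt f).left := by
        rw [CoactBr.pt_left, IsIntegralHom.SpecMap_iff]
        intro y
        haveI : Algebra.IsIntegral k (AlgebraicClosure k) := Algebra.IsAlgebraic.isIntegral
        letI := f.toRingHom.toAlgebra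
        haveI : IsScalarTower k R (AlgebraicClosure k) := IsScalarTower.of_algebraMap_eq fun r => (f.commutes r).symm
        exact (Algebra.IsIntegral.isIntegral (R := k) y).tower_top (A := R)
      haveI : IsIso (eX X).hom.left := inferInstanceAs (IsIso ((Over.forget _).map (eX X).hom))
      rw [Over.comp_left]
      infer_instance
    haveI : IsIntegralHom (X ◁ x).left :=
      MorphismProperty.of_isPullback ((isPullback_whiskerLeft (G := X) x).map (Over.forget _)).flip ‹IsIntegralHom x.left›
    haveI : IsIso u₂.left := inferInstanceAs (IsIso ((Over.forget _).map u₂))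
    haveI : IsIso i.left := inferInstanceAs (IsIso ((Over.forget _).map i))
    haveI : IsIso (β_ X X).hom.left := inferInstanceAs (IsIso ((Over.forget _).map (β_ X X).hom))
    have h1 : IsClosed (Set.range (CoactBr.pt (π.comp (θ k A R)) ≫ u₂).left) := by
      have hs := i.left.surjective
      rw [hall]
      generalize i = i' at hs ⊢
      rw [Over.comp_left, Over.comp_left, Over.comp_left]
      simp only [Scheme.Hom.comp_base, TopCat.coe_comp, Set.range_comp]
      rw [hs.range_eq, Set.image_univ, Set.range_comp, Set.image_comp]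
      exact (β_ X X).hom.left.isClosedMap _ ((X ◁ x).left.isClosedMap _ (hc _ _ (Iso.refl _) x))
    rw [Over.comp_left, Scheme.Hom.comp_base, TopCat.coe_comp, Set.range_comp] at h1
    have h2 := h1.preimage u₂.left.continuous
    rw [Set.preimage_image_eq _ u₂.left.injective] at h2
    exact h2
  · have h : LocallyQuasiFinite θ'.left := (hiff @LocallyQuasiFinite).2 inferInstance
    rw [CoactBr.pt_left] at h
    exact (HasRingHomProperty.Spec_iff (P := @LocallyQuasiFinite)).1 h

end Groth.Agent.PropAct
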